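import Groth.Agent.Lib.ZarCoh.FlatBC.PullbackSections
import Groth.Agent.Lib.Modules.Stalk

/-!
# When the transpose of `A ⟶ g_* B` is an isomorphism
-/

set_option linter.style.haveILetI false

universe u

open CategoryTheory CategoryTheory.Limits AlgebraicGeometry AlgebraicGeometry.Scheme.Modules
open TopologicalSpace Opposite

namespace Groth.Agent.Lib.CohDelta.BC.Transpose

/-- A morphism bijective on a basis is an isomorphism. -/
theorem isIso_of_bijective_basis {X : Scheme.{u}} {F G : X.Modules} (φ : F ⟶ G)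
    {B : Set X.Opens} (hB : Opens.IsBasis B)
    (h : ∀ W ∈ B, Function.Bijective (φ.app W)) : IsIso φ := by
  rw [Groth.Agent.Lib.Modules.Stalk.isIso_iff_stalk]
  intro x
  refine (ConcreteCategory.isIso_iff_bijective _).2 ⟨?_, fun b ↦ ?_⟩
  · rw [injective_iff_map_eq_zero]
    intro a ha
    obtain ⟨U, hx, s, rfl⟩ := TopCat.Presheaf.exists_germ_eq F.presheaf a
    rw [Groth.Agent.Lib.Modules.Stalk.stalkFunctor_map_germ] at ha
    obtain ⟨W, hxW, i₁, i₂, hs⟩ := TopCat.Presheaf.germ_eq G.presheaf x hx hx (φ.app U s) 0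
      (ha.trans (map_zero _).symm)
    obtain ⟨W', hW', hxW', hle⟩ := Opens.isBasis_iff_nbhd.1 hB hxW
    have h0 : φ.app W' (F.presheaf.map (homOfLE hle ≫ i₁).op s) = 0 := by
      refine (φ.mapPresheaf.naturality_apply (homOfLE hle ≫ i₁).op s).trans ?_
      rw [op_comp, Functor.map_comp, ConcreteCategory.comp_apply]
      exact (congrArg _ (hs.trans (map_zero _))).trans (map_zero _)
    refine (TopCat.Presheaf.germ_res_apply F.presheaf (homOfLE hle ≫ i₁) x hxW' s).symm.trans ?_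
    exact (congrArg _ ((h W' hW').1 (h0.trans (map_zero (φ.app W').hom).symm))).trans (map_zero _)
  · obtain ⟨U, hx, t, rfl⟩ := TopCat.Presheaf.exists_germ_eq G.presheaf b
    obtain ⟨W, hW, hxW, hle⟩ := Opens.isBasis_iff_nbhd.1 hB hx
    obtain ⟨s, hs⟩ := (h W hW).2 (G.presheaf.map (homOfLE hle).op t)
    refine ⟨F.presheaf.germ W x hxW s, ?_⟩
    rw [Groth.Agent.Lib.Modules.Stalk.stalkFunctor_map_germ, hs]
    exact TopCat.Presheaf.germ_res_apply G.presheaf (homOfLE hle) x hxW t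

variable {S S' : Scheme.{u}} (g : S' ⟶ S) {A : S.Modules} {B : S'.Modules}
  (φ : A ⟶ (pushforward g).obj B)

/-- The transpose on pulled back sections. -/
theorem transpose_pbRes {W : S.Opens} {W' : S'.Opens} (e : W' ≤ g ⁻¹ᵁ W) (m : Γ(A, W)) :
    (((pullbackPushforwardAdjunction g).homEquiv A B).symm φ).app W'
        (_root_.ZarCoh.FlatBC.PullbackSections.pbRes g A e m) =
      B.presheaf.map (homOfLE e).op (φ.app W m) := by
  have h1 := (((pullbackPushforwardAdjunction g).homEquiv A B).symm φ).mapPresheaf.naturality_apply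
    (homOfLE e).op (((pullbackPushforwardAdjunction g).unit.app A).app W m)
  refine h1.trans (congrArg (B.presheaf.map (homOfLE e).op) ?_)
  exact congr(($((Adjunction.homEquiv_unit (adj := pullbackPushforwardAdjunction g) A B
    (((pullbackPushforwardAdjunction g).homEquiv A B).symm φ)).symm.trans
      (Equiv.apply_symm_apply _ _))).app W m)

/-- The transpose is an isomorphism if it is bijective on base changed sections over affines. -/
theorem isIso_transpose [A.IsQuasicoherent]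
    (H : ∀ (V : S.Opens) (V' : S'.Opens), IsAffineOpen V → IsAffineOpen V' →
      ∀ (e : V'.ι ''ᵁ ⊤ ≤ g ⁻¹ᵁ (V.ι ''ᵁ ⊤)),
        Function.Bijective fun z ↦ (((pullbackPushforwardAdjunction g).homEquiv A B).symm φ).app
          (V'.ι ''ᵁ ⊤) (_root_.ZarCoh.FlatBC.PullbackSections.pbTensor g A e z)) :
    IsIso (((pullbackPushforwardAdjunction g).homEquiv A B).symm φ) := by
  refine isIso_of_bijective_basis _
    (B := {W | ∃ (V : S.Opens) (V' : S'.Opens), IsAffineOpen V ∧ IsAffineOpen V' ∧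
      V' ≤ g ⁻¹ᵁ V ∧ W = V'.ι ''ᵁ ⊤}) ?_ ?_
  · refine Opens.isBasis_iff_nbhd.2 fun {U x} hx ↦ ?_
    obtain ⟨V, hV, hxV, -⟩ := exists_isAffineOpen_mem_and_subset (U := (⊤ : S.Opens)) (x := g x) trivial
    obtain ⟨V', hV', hxV', hle⟩ := exists_isAffineOpen_mem_and_subset (U := U ⊓ g ⁻¹ᵁ V) (x := x) ⟨hx, hxV⟩
    refine ⟨V'.ι ''ᵁ ⊤, ⟨V, V', hV, hV', fun y hy ↦ (hle hy).2, rfl⟩, ?_, ?_⟩
    · rw [V'.ι_image_top]; exact hxV'
    · rw [V'.ι_image_top]; exact fun y hy ↦ (hle hy).1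
  · rintro _ ⟨V, V', hV, hV', hle, rfl⟩
    have e : V'.ι ''ᵁ ⊤ ≤ g ⁻¹ᵁ (V.ι ''ᵁ ⊤) := by rwa [V'.ι_image_top, V.ι_image_top]
    exact (Function.Bijective.of_comp_iff _
      (_root_.ZarCoh.FlatBC.PullbackSections.bijective_pbTensor g A
        (V.ι_image_top.symm ▸ hV) (V'.ι_image_top.symm ▸ hV') e)).1 (H V V' hV hV' e)

end Groth.Agent.Lib.CohDelta.BC.Transpose
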