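import Groth.Agent.Lib.CohDelta.BC.Affine
import Groth.Agent.Lib.Cyc.FP.Stalk
import Groth.Agent.Lib.DerivedOX.Grothendieck
import Mathlib.CategoryTheory.Abelian.Exact
import Groth.Agent.S0030

/-!
# Flat base change for higher direct images
-/

set_option linter.style.haveILetI false
set_option maxHeartbeats 2000000

universe u

open CategoryTheory CategoryTheory.Limits AlgebraicGeometry AlgebraicGeometry.Scheme.Modules

namespace Groth.Agent.Lib.CohDelta.BC.Flat

variable {X S X' S' : Scheme.{u}}

/-- Pullback along a flat morphism is left exact. -/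
theorem preservesFiniteLimits_pullback (f : X ⟶ S) [Flat f] :
    PreservesFiniteLimits (Scheme.Modules.pullback f) := by
  haveI : PreservesColimitsOfSize.{u, u} (Scheme.Modules.pullback f) :=
    (pullbackPushforwardAdjunction f).leftAdjoint_preservesColimits
  haveI : PreservesFiniteColimits (Scheme.Modules.pullback f) :=
    PreservesColimitsOfSize.preservesFiniteColimits _
  haveI : (Scheme.Modules.pullback f).Additive :=
    (pullbackPushforwardAdjunction f).left_adjoint_additive
  haveI : (Scheme.Modules.pullback f).PreservesMonomorphisms :=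
    ⟨fun g _ => Groth.Agent.Lib.Cyc.FP.Stalk.mono_pullback f g⟩
  haveI : (Scheme.Modules.pullback f).PreservesHomology :=
    Functor.preservesHomology_of_preservesMonos_and_cokernels _
  exact Functor.preservesFiniteLimits_of_preservesHomology _

/-- Flat base change: `bcQ` is an isomorphism. -/
theorem isIso_bcQ (f : X ⟶ S) (g : S' ⟶ S) (g' : X' ⟶ X) (f' : X' ⟶ S')
    (h : IsPullback g' f' f g) [QuasiCompact f] [QuasiSeparated f] [Flat g]
    [HasInjectiveResolutions X.Modules] [HasInjectiveResolutions X'.Modules]
    [PreservesFiniteLimits (Scheme.Modules.pullback g')] (M : X.Modules) [M.IsQuasicoherent]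
    (i : ℕ) : IsIso (CohBC.bcQ f g f' g' h.w i M) := by
  obtain ⟨φ, h0, hbc⟩ := Lift.exists_lift f g f' g' h.w M i
  haveI : ((Coh.Rpush f i).obj M).IsQuasicoherent := Groth.Agent.S0030.result f M i
  exact Transpose.isIso_transpose g (CohBC.bcQAdj f g f' g' h.w i M) fun V V' hV hV' e ↦
    Affine.bijective f g f' g' h e (injectiveResolution M)
      (injectiveResolution ((Scheme.Modules.pullback g').obj M)) φ h0 i
      (CohBC.bcQAdj f g f' g' h.w i M) hbc hV hV'

/-- Flat base change in degree zero. -/
theorem isIso_bc0 (f : X ⟶ S) (g : S' ⟶ S) (g' : X' ⟶ X) (f' : X' ⟶ S')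
    (h : IsPullback g' f' f g) [QuasiCompact f] [QuasiSeparated f] [Flat g]
    (M : X.Modules) [M.IsQuasicoherent] : IsIso (CohBC.bc0 f g f' g' h.w M) := by
  haveI : Flat g' := MorphismProperty.of_isPullback h.flip inferInstance
  haveI := preservesFiniteLimits_pullback g'
  haveI : EnoughInjectives X.Modules := inferInstance
  haveI := isIso_bcQ f g g' f' h M 0
  haveI : ∀ {P Q : Scheme.{u}} (q : P ⟶ Q) (N : P.Modules),
      IsIso ((pushforward q).toRightDerivedZero.app N) := fun q N ↦ by
    haveI : IsIso (pushforward q).toRightDerivedZero := inferInstance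
    exact NatIso.isIso_app_of_isIso _ N
  have hc := CohBC.bcQ_zero_compat f g f' g' h.w M
  haveI : IsIso ((Scheme.Modules.pullback g).map ((pushforward f).toRightDerivedZero.app M)) :=
    Functor.map_isIso _ _
  haveI : IsIso (CohBC.bc0 f g f' g' h.w M ≫
      (pushforward f').toRightDerivedZero.app ((Scheme.Modules.pullback g').obj M)) :=
    hc ▸ inferInstance
  exact IsIso.of_isIso_comp_right _
    ((pushforward f').toRightDerivedZero.app ((Scheme.Modules.pullback g').obj M))

end Groth.Agent.Lib.CohDelta.BC.Flat
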