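import Groth.Agent.Lib.CohDelta.BC.Main

/-!
# Base change classes are the flat base change comparison
-/

set_option linter.style.haveILetI false
set_option maxHeartbeats 2000000

universe u

open CategoryTheory CategoryTheory.Limits AlgebraicGeometry AlgebraicGeometry.Scheme.Modules
open TopologicalSpace Opposite
open CategoryTheory.Abelian
open Groth.Agent.Lib.ZarCoh.Basic Groth.Agent.Lib.ZarCoh.Compare
open Groth.Agent.Lib.CohDelta.Basic Groth.Agent.Lib.CohDelta.Syzygy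
open scoped TensorProduct

namespace Groth.Agent.Lib.CohDelta.BC.Affine

theorem smulAb_natural {Y : Scheme.{u}} {A B : Y.Modules} (φ : A ⟶ B) (r : Coh.Γtop Y) :
    Coh.smulAb A r ≫ abMap φ = abMap φ ≫ Coh.smulAb B r := by
  refine Sheaf.hom_ext (NatTrans.ext (funext fun O ↦ ?_))
  refine AddCommGrpCat.hom_ext (AddMonoidHom.ext fun m ↦ ?_)
  exact φ.app_smul _ _

theorem bijective_postcomp {C : Type (u + 1)} [Category.{u} C] [Abelian C] [HasExt.{u} C]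
    {P A B : C} (φ : A ⟶ B) [IsIso φ] (n : ℕ) :
    Function.Bijective fun x : Ext.{u} P A n ↦ x.comp (Ext.mk₀ φ) (add_zero n) := by
  refine Function.bijective_iff_has_inverse.2
    ⟨fun y ↦ y.comp (Ext.mk₀ (inv φ)) (add_zero n), fun x ↦ ?_, fun y ↦ ?_⟩
  · simp [Ext.comp_assoc_of_second_deg_zero]
  · simp [Ext.comp_assoc_of_second_deg_zero]

theorem pb_eq_toGlobal {Y T : Scheme.{u}} [IsAffine T] (p : Y ⟶ T) (a : Γ(T, ⊤)) :
    Coh.toGlobal (A := Γ(T, ⊤)) (p ≫ T.isoSpec.hom) a = Glue.pb p a := by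
  show p.appTop (T.isoSpec.hom.appTop ((Scheme.ΓSpecIso (CommRingCat.of Γ(T, ⊤))).inv a)) = p.appTop a
  refine congrArg _ ?_
  rw [show T.isoSpec.hom = T.toSpecΓ from rfl, Scheme.toSpecΓ_appTop]
  exact congr($((Scheme.ΓSpecIso Γ(T, ⊤)).inv_hom_id) a)

theorem map_map_comp {C D E : Type*} [Category C] [Category D] [Category E] (F : C ⥤ D) (G : D ⥤ E)
    {x y z : C} (a : x ⟶ y) (c : y ⟶ z) :
    G.map (F.map a) ≫ G.map (F.map c) = G.map (F.map (a ≫ c)) := by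
  rw [← G.map_comp, ← F.map_comp]

theorem comp_comm {C : Type (u + 1)} [Category.{u} C] [Abelian C] [HasExt.{u} C]
    {P A B : C} (s : A ⟶ A) (α : A ⟶ B) (s' : B ⟶ B) (hc : s ≫ α = α ≫ s') {n : ℕ}
    (x : Ext.{u} P A n) :
    (x.comp (Ext.mk₀ s) (add_zero n)).comp (Ext.mk₀ α) (add_zero n) =
      (x.comp (Ext.mk₀ α) (add_zero n)).comp (Ext.mk₀ s') (add_zero n) := by
  rw [Ext.comp_assoc_of_second_deg_zero, Ext.comp_assoc_of_second_deg_zero, Ext.mk₀_comp_mk₀,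
    Ext.mk₀_comp_mk₀, hc]

section EVSmul

variable {X S : Scheme.{u}} (f : X ⟶ S) [HasInjectiveResolutions X.Modules] {M : X.Modules}
  (I : InjectiveResolution M) (n : ℕ) (V : S.Opens)

theorem EV_comp_smul {N : ((f ⁻¹ᵁ V : X.Opens) : Scheme.{u}).Modules}
    (ω : N ⟶ (Z I 0).restrict (f ⁻¹ᵁ V).ι) (r : Γ(S, V.ι ''ᵁ ⊤))
    (s : Coh.Γtop ((f ⁻¹ᵁ V : X.Opens) : Scheme.{u})) (hs : s = Glue.pb (f ∣_ V) r)
    (x : Ext.{u} (Zs.obj ((f ∣_ V) ⁻¹ᵁ ⊤)) (Coh.toAb N) n) :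
    Comp.EV f I n V ((x.comp (Ext.mk₀ (Coh.smulAb N s)) (add_zero n)).comp (Ext.mk₀ (abMap ω))
        (add_zero n)) =
      r • Comp.EV f I n V (x.comp (Ext.mk₀ (abMap ω)) (add_zero n)) := by
  subst hs
  refine Eq.trans ?_ (Comp.EV_smul f I n V r (x.comp (Ext.mk₀ (abMap ω)) (add_zero n)))
  exact congrArg (Comp.EV f I n V) (comp_comm _ _ _ (smulAb_natural ω _) x)

end EVSmul

theorem aug_square {X X' : Scheme.{u}} (g' : X' ⟶ X) {U : X.Opens} {U' : X'.Opens}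
    (hU : U' ≤ g' ⁻¹ᵁ U) {M : X.Modules} (I : InjectiveResolution M)
    (J : InjectiveResolution ((Scheme.Modules.pullback g').obj M))
    (φ : I.cocomplex ⟶ ((pushforward g').mapHomologicalComplex (ComplexShape.up ℕ)).obj J.cocomplex)
    (h0 : I.ι.f 0 ≫ φ.f 0 =
      (pullbackPushforwardAdjunction g').unit.app M ≫ (pushforward g').map (J.ι.f 0)) :
    (QCohR.rV X U).map (abMap (augIso I).hom) ≫ Beta.τ g' hU I J φ 0 =
      abMap ((pullbackPushforwardAdjunction (Beta.jj g' hU)).unit.app (M.restrict U.ι)) ≫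
        (CohTop.push (Beta.jj g' hU).base).map
          (abMap ((Units.pon g' (Beta.jj g' hU) (Scheme.Hom.resLE_comp_ι g' hU)).app M ≫
            (restrictFunctor U'.ι).map (augIso J).hom)) := by
  have e1 : abMap (augIso I).hom ≫ abMap (Lift.ψ I J φ 0) =
      abMap ((pullbackPushforwardAdjunction g').unit.app M) ≫
        (CohTop.push g'.base).map (abMap (augIso J).hom) :=
    ((abF X).map_comp _ _).symm.trans
      ((congrArg (abF X).map (Lift.augIso_ψ I J φ h0)).trans ((abF X).map_comp _ _))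
  have e2 := congrArg (fun k ↦ (QCohR.rV X U).map k ≫
    Beta.β g' hU (Coh.toAb (Z J 0))) e1
  refine (Category.assoc _ _ _).symm.trans ((congrArg (fun k ↦ k ≫ Beta.β g' hU _)
    ((QCohR.rV X U).map_comp _ _).symm).trans (e2.trans ?_))
  refine (congrArg (fun k ↦ k ≫ Beta.β g' hU _) ((QCohR.rV X U).map_comp _ _)).trans ?_
  refine (Category.assoc _ _ _).trans ?_
  refine (congrArg ((QCohR.rV X U).map (abMap ((pullbackPushforwardAdjunction g').unit.app M)) ≫ ·)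
    (Beta.β_natural g' hU (abMap (augIso J).hom))).trans ?_
  refine (Category.assoc _ _ _).symm.trans
    ((congrArg (fun k ↦ k ≫ _) (Main.unit_β g' hU M)).trans ?_)
  refine (Category.assoc _ _ _).trans ?_
  refine congrArg (abMap ((pullbackPushforwardAdjunction (Beta.jj g' hU)).unit.app
    (M.restrict U.ι)) ≫ ·) ?_
  exact map_map_comp (abF (U' : Scheme.{u})) (CohTop.push (Beta.jj g' hU).base)
    ((Units.pon g' (Beta.jj g' hU) (Scheme.Hom.resLE_comp_ι g' hU)).app M)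
    ((restrictFunctor U'.ι).map (augIso J).hom)

variable {X S X' S' : Scheme.{u}} (f : X ⟶ S) (g : S' ⟶ S) (f' : X' ⟶ S') (g' : X' ⟶ X)
  (h : IsPullback g' f' f g) {V : S.Opens} {V' : S'.Opens}
  (e : V'.ι ''ᵁ ⊤ ≤ g ⁻¹ᵁ (V.ι ''ᵁ ⊤))

include e in
theorem hle : V' ≤ g ⁻¹ᵁ V := by
  have e' := e
  rwa [V.ι_image_top, V'.ι_image_top] at e'

theorem appTop_resLE :
    (g.resLE V V' (hle g e)).appTop = g.appLE (V.ι ''ᵁ ⊤) (V'.ι ''ᵁ ⊤) e := by
  rw [Scheme.Hom.appTop, ← Scheme.Hom.appLE_eq_app, Scheme.Hom.resLE_appLE]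
  rfl

include h in
theorem isPullback_restrict :
    IsPullback (g'.resLE (f ⁻¹ᵁ V) (f' ⁻¹ᵁ V') (Main.le_preimage f g f' g' h.w V V' e))
      (f' ∣_ V') (f ∣_ V) (g.resLE V V' (hle g e)) := by
  have outer := (isPullback_morphismRestrict f' V').flip.paste_horiz h
  rw [← Scheme.Hom.resLE_comp_ι g' (Main.le_preimage f g f' g' h.w V V' e),
    ← Scheme.Hom.resLE_comp_ι g (hle g e)] at outer
  refine IsPullback.of_right outer ?_ (isPullback_morphismRestrict f V).flip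
  rw [← cancel_mono V.ι, Category.assoc, Category.assoc, Scheme.Hom.resLE_comp_ι,
    morphismRestrict_ι, morphismRestrict_ι_assoc, Scheme.Hom.resLE_comp_ι_assoc, h.w]

variable [QuasiCompact f] [QuasiSeparated f] [Flat g]
  [HasInjectiveResolutions X.Modules] [HasInjectiveResolutions X'.Modules]
  {M : X.Modules} [M.IsQuasicoherent] (I : InjectiveResolution M)
  (J : InjectiveResolution ((Scheme.Modules.pullback g').obj M))
  (φ : I.cocomplex ⟶ ((pushforward g').mapHomologicalComplex (ComplexShape.up ℕ)).obj J.cocomplex)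
  (h0 : I.ι.f 0 ≫ φ.f 0 =
    (pullbackPushforwardAdjunction g').unit.app M ≫ (pushforward g').map (J.ι.f 0))
  (n : ℕ)
  (bc : Comp.Rn f (M := M) n ⟶
    (pushforward g).obj (Comp.Rn f' (M := (Scheme.Modules.pullback g').obj M) n))
  (hbc : Lift.pR I f n ≫ bc = Lift.comb f g f' g' h.w (Lift.ψ I J φ n) (Lift.pR J f' n))


include h h0 hbc in
set_option maxHeartbeats 6000000 in
theorem bijective (hV : IsAffineOpen V) (hV' : IsAffineOpen V') :
    Function.Bijective fun z ↦ (((pullbackPushforwardAdjunction g).homEquiv _ _).symm bc).app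
      (V'.ι ''ᵁ ⊤) (_root_.ZarCoh.FlatBC.PullbackSections.pbTensor g (Comp.Rn f (M := M) n) e z) := by
  haveI : IsAffine (V : Scheme.{u}) := hV
  haveI : IsAffine (V' : Scheme.{u}) := hV'
  haveI : QuasiCompact f' := MorphismProperty.of_isPullback h inferInstance
  haveI : QuasiSeparated f' := MorphismProperty.of_isPullback h inferInstance
  haveI := QCoh.Pullback.isQCoh_pullback g' M
  let G := (Scheme.Modules.pullback g').obj M
  haveI : (Z I 0).IsQuasicoherent :=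
    ObjectProperty.prop_of_iso (SheafOfModules.isQuasicoherent (R := X.ringCatSheaf)) (augIso I) ‹_›
  haveI : (Z J 0).IsQuasicoherent :=
    ObjectProperty.prop_of_iso (SheafOfModules.isQuasicoherent (R := X'.ringCatSheaf)) (augIso J)
      (QCoh.Pullback.isQCoh_pullback g' M)
  let hU := Main.le_preimage f g f' g' h.w V V' e
  let j := Beta.jj g' hU
  let M₀ := M.restrict (f ⁻¹ᵁ V).ι
  letI : Algebra Γ(S, V.ι ''ᵁ ⊤) Γ(S', V'.ι ''ᵁ ⊤) :=
    (g.appLE (V.ι ''ᵁ ⊤) (V'.ι ''ᵁ ⊤) e).hom.toAlgebra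
  haveI : Module.Flat Γ(S, V.ι ''ᵁ ⊤) Γ(S', V'.ι ''ᵁ ⊤) :=
    g.flat_appLE (V.ι_image_top.symm ▸ hV) (V'.ι_image_top.symm ▸ hV') e
  let p : ((f ⁻¹ᵁ V : X.Opens) : Scheme.{u}) ⟶ Spec (CommRingCat.of Γ(S, V.ι ''ᵁ ⊤)) :=
    (f ∣_ V) ≫ (V : Scheme.{u}).isoSpec.hom
  let p' : ((f' ⁻¹ᵁ V' : X'.Opens) : Scheme.{u}) ⟶ Spec (CommRingCat.of Γ(S', V'.ι ''ᵁ ⊤)) :=
    (f' ∣_ V') ≫ (V' : Scheme.{u}).isoSpec.hom
  have hnat : g.resLE V V' (hle g e) ≫ (V : Scheme.{u}).isoSpec.hom =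
      (V' : Scheme.{u}).isoSpec.hom ≫ Spec.map (CommRingCat.ofHom (algebraMap Γ(S, V.ι ''ᵁ ⊤) Γ(S', V'.ι ''ᵁ ⊤))) := by
    rw [← Scheme.isoSpec_hom_naturality, appTop_resLE g e]
    rfl
  have hsq : IsPullback j p' p (Spec.map (CommRingCat.ofHom (algebraMap Γ(S, V.ι ''ᵁ ⊤) Γ(S', V'.ι ''ᵁ ⊤)))) :=
    (isPullback_restrict f g f' g' h e).paste_vert (IsPullback.of_vert_isIso ⟨hnat⟩)
  haveI : CompactSpace ((f ⁻¹ᵁ V : X.Opens) : Scheme.{u}) :=
    QuasiCompact.compactSpace_of_compactSpace (f ∣_ V)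
  haveI : QuasiSeparatedSpace ((f ⁻¹ᵁ V : X.Opens) : Scheme.{u}) :=
    quasiSeparatedSpace_of_quasiSeparated (f ∣_ V)
  haveI : IsAffineHom j := _root_.ZarCoh.FlatBC.Main.isAffineHom_fst hsq
  haveI := QCoh.Pullback.isQCoh_pullback j M₀
  let ρ := _root_.ZarCoh.FlatBC.Main.ρ p M₀
  letI := _root_.ZarCoh.FlatBC.actModule ρ
    (Zs.obj (⊤ : ((f ⁻¹ᵁ V : X.Opens) : Scheme.{u}).Opens)) n
  have hΦ : Function.Bijective (_root_.ZarCoh.FlatBC.Φ ρ Γ(S', V'.ι ''ᵁ ⊤)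
      (_root_.ZarCoh.FlatBC.Main.σ p' j M₀) (_root_.ZarCoh.FlatBC.Main.σ_smul hsq M₀)
      (Zs.obj (⊤ : ((f ⁻¹ᵁ V : X.Opens) : Scheme.{u}).Opens)) n) :=
    _root_.ZarCoh.FlatBC.Main.bij_top hsq M₀ n
  have hP : Function.Bijective (pushMap j.base (⊤ : ((f ⁻¹ᵁ V : X.Opens) : Scheme.{u}).Opens) n
      (Coh.toAb ((Scheme.Modules.pullback j).obj M₀))) :=
    Groth.Agent.Lib.ZarCoh.Morph.pushMap_bijective j _ ⊤ n
  let α₁ := (QCohR.rV X (f ⁻¹ᵁ V)).map (abMap (augIso I).hom)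
  let ω := (Units.pon g' j (Scheme.Hom.resLE_comp_ι g' hU)).app M
  haveI : IsIso ω := Main.isIso_pon g' hU M
  let ω' : (Scheme.Modules.pullback j).obj M₀ ⟶ (Z J 0).restrict (f' ⁻¹ᵁ V').ι :=
    ω ≫ (restrictFunctor (f' ⁻¹ᵁ V').ι).map (augIso J).hom
  let α₂ := abMap ω'
  let εI : Ext.{u} (Zs.obj (⊤ : ((f ⁻¹ᵁ V : X.Opens) : Scheme.{u}).Opens)) (Coh.toAb M₀) n →+
      Γ(Comp.Rn f (M := M) n, V.ι ''ᵁ ⊤) :=
    (Comp.EV f I n V).comp ((Ext.mk₀ α₁).postcomp _ (add_zero n))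
  let εJ : Ext.{u} (Zs.obj (j ⁻¹ᵁ ⊤)) (Coh.toAb ((Scheme.Modules.pullback j).obj M₀)) n →+
      Γ(Comp.Rn f' (M := G) n, V'.ι ''ᵁ ⊤) :=
    (Comp.EV f' J n V').comp ((Ext.mk₀ α₂).postcomp _ (add_zero n))
  have hεI : Function.Bijective εI :=
    ((Comp.E_bijective f I n (V.ι_image_top.symm ▸ hV)).comp (AddEquiv.bijective _)).comp
      (bijective_postcomp α₁ n)
  have hεJ : Function.Bijective εJ :=
    ((Comp.E_bijective f' J n (V'.ι_image_top.symm ▸ hV')).comp (AddEquiv.bijective _)).comp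
      (bijective_postcomp α₂ n)
  have hsI : ∀ (a : Γ(S, V.ι ''ᵁ ⊤)) (x), εI (a • x) = (show Γ(S, V.ι ''ᵁ ⊤) from a) • εI x := fun a x ↦
    EV_comp_smul f I n V (N := M₀) ((restrictFunctor (f ⁻¹ᵁ V).ι).map (augIso I).hom) a
      (Coh.toGlobal p a) (pb_eq_toGlobal (f ∣_ V) a) x
  have hsJ : ∀ (b : Γ(S', V'.ι ''ᵁ ⊤)) (y), εJ (y.comp (Ext.mk₀ (Coh.smulAb ((Scheme.Modules.pullback j).obj M₀)
      (Coh.toGlobal p' b))) (add_zero n)) = (show Γ(S', V'.ι ''ᵁ ⊤) from b) • εJ y := fun b y ↦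
    EV_comp_smul f' J n V' ω' b (Coh.toGlobal p' b) (pb_eq_toGlobal (f' ∣_ V') b) y
  have key : ∀ x, (Comp.Rn f' (M := G) n).presheaf.map (homOfLE e).op
      (bc.app (V.ι ''ᵁ ⊤) (εI x)) =
        εJ (PushCls.along j.base ⊤ (abMap ((pullbackPushforwardAdjunction j).unit.app M₀)) n x) :=
    fun x ↦ (Main.EV_Ψ f g f' g' h.w V V' e I J φ n bc hbc _).trans (congrArg (Comp.EV f' J n V')
      (PushCls.along_natural j.base ⊤ α₁ α₂ _ (Beta.τ g' hU I J φ 0)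
        (aug_square g' hU I J φ h0) n x))
  let εI' : Ext.{u} (Zs.obj (⊤ : ((f ⁻¹ᵁ V : X.Opens) : Scheme.{u}).Opens)) (Coh.toAb M₀) n ≃ₗ[Γ(S, V.ι ''ᵁ ⊤)]
      Γ(Comp.Rn f (M := M) n, V.ι ''ᵁ ⊤) :=
    LinearEquiv.ofBijective { εI with map_smul' := hsI } hεI
  let T := εI'.lTensor Γ(S', V'.ι ''ᵁ ⊤)
  refine (Function.Bijective.of_comp_iff _ T.bijective).1 ?_
  have hfun : ((fun z ↦ (((pullbackPushforwardAdjunction g).homEquiv _ _).symm bc).app
      (V'.ι ''ᵁ ⊤) (_root_.ZarCoh.FlatBC.PullbackSections.pbTensor g (Comp.Rn f (M := M) n) e z))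
        ∘ T) = fun z ↦ εJ (pushMap j.base ⊤ n _ (_root_.ZarCoh.FlatBC.Φ ρ Γ(S', V'.ι ''ᵁ ⊤)
      (_root_.ZarCoh.FlatBC.Main.σ p' j M₀) (_root_.ZarCoh.FlatBC.Main.σ_smul hsq M₀)
      (Zs.obj (⊤ : ((f ⁻¹ᵁ V : X.Opens) : Scheme.{u}).Opens)) n z)) := by
    funext z
    induction z using TensorProduct.induction_on with
    | zero =>
      exact ((congrArg _ ((congrArg _ (map_zero T)).trans (map_zero _))).trans (map_zero _)).trans
        ((congrArg εJ ((congrArg _ (map_zero _)).trans (map_zero _))).trans (map_zero _)).symm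
    | tmul b x =>
      show (((pullbackPushforwardAdjunction g).homEquiv _ _).symm bc).app (V'.ι ''ᵁ ⊤)
        (_root_.ZarCoh.FlatBC.PullbackSections.pbTensor g (Comp.Rn f (M := M) n) e
          (b ⊗ₜ εI x)) = _
      rw [_root_.ZarCoh.FlatBC.PullbackSections.pbTensor_tmul, _root_.ZarCoh.FlatBC.Φ_tmul]
      refine ((((pullbackPushforwardAdjunction g).homEquiv _ _).symm bc).app_smul _ _).trans ?_
      refine (congrArg (fun k ↦ (show Γ(S', V'.ι ''ᵁ ⊤) from b) • k)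
        ((Transpose.transpose_pbRes g bc e (εI x)).trans (key x))).trans ?_
      refine (hsJ b _).symm.trans (congrArg εJ ?_)
      refine (pushMap_natural j.base ⊤ n _ _).symm.trans (congrArg (pushMap j.base ⊤ n _) ?_)
      exact (Ext.comp_assoc_of_second_deg_zero _ _ _ _).trans
        (congrArg (fun k ↦ Ext.comp x k (add_zero n)) (Ext.mk₀_comp_mk₀ _ _))
    | add z z' hz hz' =>
      exact ((congrArg _ ((congrArg _ (map_add T z z')).trans (map_add _ _ _))).trans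
        (map_add _ _ _)).trans ((congrArg₂ (· + ·) hz hz').trans
          ((congrArg εJ ((congrArg _ (map_add _ z z')).trans (map_add _ _ _))).trans
            (map_add _ _ _)).symm)
  exact hfun ▸ hεJ.comp (hP.comp hΦ)

end Groth.Agent.Lib.CohDelta.BC.Affine
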