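import Groth.Agent.Lib.CohDelta.QCohR
import Groth.Agent.Lib.CohDelta.Sect

/-!
# The pinned comparison over an open of the base
-/

set_option autoImplicit false
set_option linter.style.haveILetI false
set_option maxHeartbeats 2000000
set_option linter.unusedSectionVars false

universe u

open CategoryTheory CategoryTheory.Limits AlgebraicGeometry AlgebraicGeometry.Scheme.Modules
open TopologicalSpace Opposite CategoryTheory.Abelian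
open Groth.Agent.Lib.ZarCoh.Basic Groth.Agent.Lib.ZarCoh.Compare
open Groth.Agent.Lib.CohDelta.Basic Groth.Agent.Lib.CohDelta.QCohR

namespace Groth.Agent.Lib.CohDelta.BC.EpsV

theorem extClass_natural {C : Type (u + 1)} [Category.{u} C] [Abelian C] [HasExt.{u} C]
    {S S' : ShortComplex C} (hS : S.ShortExact) (hS' : S'.ShortExact) (τ : S ⟶ S') {K : C} {p : ℕ}
    (x : Ext.{u} K S.X₃ p) :
    (x.comp hS.extClass rfl).comp (Ext.mk₀ τ.τ₁) (add_zero (p + 1)) =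
      (x.comp (Ext.mk₀ τ.τ₃) (add_zero p)).comp hS'.extClass rfl := by
  rw [Ext.comp_assoc_of_third_deg_zero, hS.extClass_naturality hS' τ,
    ← Ext.comp_assoc_of_second_deg_zero]

variable {X Y : Scheme.{u}} {f : X ⟶ Y} [HasInjectiveResolutions X.Modules]
  {Δ : RDer.DerivedLES (pushforward f)} (E : CohCmp.SectCmp f Δ) (V : Y.Opens) (n : ℕ)

/-- `Hⁿ(f⁻¹V, F) → Γ(V, Rⁿf_*F)` on the scheme `f⁻¹V`. -/
noncomputable def εV (F : X.Modules) :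
    Ext.{u} (Zs.obj ((f ∣_ V) ⁻¹ᵁ ⊤)) ((rV X (f ⁻¹ᵁ V)).obj (Coh.toAb F)) n →+
      Γ((Coh.Rpush f n).obj F, V.ι ''ᵁ ⊤) :=
  (Sect.eps E (V.ι ''ᵁ ⊤) F n).comp (al f V (Coh.toAb F) n ⊤).toAddMonoidHom

/-- The comparison over `V` as locally bijective data. -/
noncomputable def cmpE (F : X.Modules) :
    Glue.Cmp (f ∣_ V) (F.restrict (f ⁻¹ᵁ V).ι) n ((rV Y V).obj (Coh.toAb ((Coh.Rpush f n).obj F))) where
  e W := (Sect.eps E (V.ι ''ᵁ W) F n).comp (al f V (Coh.toAb F) n W).toAddMonoidHom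
  nat {W W'} h x := by
    refine (congrArg (Sect.eps E (V.ι ''ᵁ W') F n) (Bridge.alpha_rs (T := TT f V) (emb f V)
      (Coh.toAb F) n ((f ∣_ V).preimage_mono h)
      (image_morphismRestrict_preimage f V W) (image_morphismRestrict_preimage f V W')
      (f.preimage_mono (V.ι.image_mono h)) x)).trans ?_
    exact Sect.eps_res E n F (V.ι.image_mono h) _
  surj W t y hy := by
    obtain ⟨W₁, h₁, hy₁, z, hz⟩ :=
      Sect.eps_locally_surjective E n F (V.ι ''ᵁ W) t (V.ι y) ⟨y, hy, rfl⟩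
    have h₂ : V.ι ⁻¹ᵁ W₁ ≤ W :=
      (V.ι.preimage_mono h₁).trans (le_of_eq (V.ι.preimage_image_eq W))
    have h₃ : V.ι ''ᵁ (V.ι ⁻¹ᵁ W₁) ≤ W₁ := V.ι.image_preimage_le W₁
    refine ⟨V.ι ⁻¹ᵁ W₁, h₂, hy₁, (al f V (Coh.toAb F) n (V.ι ⁻¹ᵁ W₁)).symm
      (rs (Coh.toAb F) n (f.preimage_mono h₃) z), ?_⟩
    refine (congrArg (Sect.eps E (V.ι ''ᵁ (V.ι ⁻¹ᵁ W₁)) F n) (AddEquiv.apply_symm_apply _ _)).trans ?_
    refine (Sect.eps_res E n F h₃ z).trans ((congrArg _ hz).trans ?_)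
    exact Groth.Agent.Lib.CohDelta.Units.map_map ((Coh.Rpush f n).obj F).presheaf (homOfLE h₁).op
      (homOfLE h₃).op (V.ι.opensFunctor.map (homOfLE h₂)).op t
  inj W x hx y hy := by
    obtain ⟨W₁, h₁, hy₁, hz⟩ := Sect.eps_locally_zero E n F (V.ι ''ᵁ W) _ hx (V.ι y) ⟨y, hy, rfl⟩
    have h₂ : V.ι ⁻¹ᵁ W₁ ≤ W :=
      (V.ι.preimage_mono h₁).trans (le_of_eq (V.ι.preimage_image_eq W))
    have h₃ : V.ι ''ᵁ (V.ι ⁻¹ᵁ W₁) ≤ W₁ := V.ι.image_preimage_le W₁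
    refine ⟨V.ι ⁻¹ᵁ W₁, h₂, hy₁, (al f V (Coh.toAb F) n (V.ι ⁻¹ᵁ W₁)).injective ?_⟩
    refine (Bridge.alpha_rs (T := TT f V) (emb f V) (Coh.toAb F) n ((f ∣_ V).preimage_mono h₂)
      (image_morphismRestrict_preimage f V W) (image_morphismRestrict_preimage f V _)
      (f.preimage_mono (V.ι.image_mono h₂)) x).trans ?_
    refine Eq.trans ?_ ((congrArg (rs _ n (f.preimage_mono h₃)) hz).trans
      ((map_zero _).trans (map_zero _).symm))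
    exact (Loc.rs_rs F (f.preimage_mono h₁) (f.preimage_mono h₃) _).symm

/-- Over an affine open the comparison is bijective. -/
theorem bijective [QuasiCompact f] [QuasiSeparated f] (F : X.Modules) [F.IsQuasicoherent]
    (hV : IsAffineOpen V) : Function.Bijective (εV E V n F) := by
  haveI : IsAffine (V : Scheme.{u}) := hV
  exact Glue.bijective_top (f ∣_ V) (F.restrict (f ⁻¹ᵁ V).ι) (cmpE E V n F)

theorem smulAb_comm {F G : X.Modules} (φ : F ⟶ G)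
    (g : Coh.Γtop ((f ⁻¹ᵁ V : X.Opens) : Scheme.{u})) :
    (rV X (f ⁻¹ᵁ V)).map (abMap φ) ≫ Coh.smulAb (G.restrict (f ⁻¹ᵁ V).ι) g =
      Coh.smulAb (F.restrict (f ⁻¹ᵁ V).ι) g ≫ (rV X (f ⁻¹ᵁ V)).map (abMap φ) :=
  QCohR.smul_natural f V g φ

theorem mulA_extClass {S : ShortComplex X.Modules}
    (hA : ((S.map (abF X)).map (rV X (f ⁻¹ᵁ V))).ShortExact)
    (g : Coh.Γtop ((f ⁻¹ᵁ V : X.Opens) : Scheme.{u})) {W : ((f ⁻¹ᵁ V : X.Opens) : Scheme.{u}).Opens}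
    {p : ℕ} (y : Ext.{u} (Zs.obj W) ((rV X (f ⁻¹ᵁ V)).obj (Coh.toAb S.X₃)) p) :
    Loc.mulA (S.X₁.restrict (f ⁻¹ᵁ V).ι) g W (p + 1) (Ext.comp y hA.extClass rfl) =
      Ext.comp (Loc.mulA (S.X₃.restrict (f ⁻¹ᵁ V).ι) g W p y) hA.extClass rfl := by
  let φ : (S.map (abF X)).map (rV X (f ⁻¹ᵁ V)) ⟶ (S.map (abF X)).map (rV X (f ⁻¹ᵁ V)) :=
    { τ₁ := Coh.smulAb (S.X₁.restrict (f ⁻¹ᵁ V).ι) g
      τ₂ := Coh.smulAb (S.X₂.restrict (f ⁻¹ᵁ V).ι) g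
      τ₃ := Coh.smulAb (S.X₃.restrict (f ⁻¹ᵁ V).ι) g
      comm₁₂ := (smulAb_comm V S.f g).symm
      comm₂₃ := (smulAb_comm V S.g g).symm }
  exact extClass_natural hA hA φ y

theorem εV_smul_zero (r : Γ(Y, V.ι ''ᵁ ⊤)) (F : X.Modules)
    (x : Ext.{u} (Zs.obj ((f ∣_ V) ⁻¹ᵁ ⊤)) ((rV X (f ⁻¹ᵁ V)).obj (Coh.toAb F)) 0) :
    εV E V 0 F (Loc.mulA (F.restrict (f ⁻¹ᵁ V).ι) (Glue.pb (f ∣_ V) r) _ 0 x) =
      r • εV E V 0 F x := by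
  let g := Glue.pb (f ∣_ V) r
  let he := image_morphismRestrict_preimage f V ⊤
  obtain ⟨y, rfl⟩ := (al f V (Coh.toAb F) 0 ⊤).symm.surjective x
  obtain ⟨k, rfl⟩ := (Ext.mk₀_bijective _ _).2 y
  obtain ⟨s, rfl⟩ := (homEquiv (f ⁻¹ᵁ (V.ι ''ᵁ ⊤)) (Coh.toAb F)).symm.surjective k
  let a := f.app (V.ι ''ᵁ ⊤) r
  have hsec : ∀ u : Γ(F, f ⁻¹ᵁ (V.ι ''ᵁ ⊤)),
      (al f V (Coh.toAb F) 0 ⊤).symm (Ext.mk₀ ((homEquiv (f ⁻¹ᵁ (V.ι ''ᵁ ⊤)) (Coh.toAb F)).symm u)) =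
        Ext.mk₀ ((homEquiv ((f ∣_ V) ⁻¹ᵁ ⊤) ((rV X (f ⁻¹ᵁ V)).obj (Coh.toAb F))).symm
          (F.presheaf.map (eqToHom he).op u)) := fun u =>
    (AddEquiv.symm_apply_eq _).2
      (Bridge.alpha_mk₀ (T := TT f V) (emb f V) (Coh.toAb F) he u).symm
  have hm : Loc.mulA (F.restrict (f ⁻¹ᵁ V).ι) g _ 0
        ((al f V (Coh.toAb F) 0 ⊤).symm
          (Ext.mk₀ ((homEquiv (f ⁻¹ᵁ (V.ι ''ᵁ ⊤)) (Coh.toAb F)).symm s))) =
      (al f V (Coh.toAb F) 0 ⊤).symm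
        (Ext.mk₀ ((homEquiv (f ⁻¹ᵁ (V.ι ''ᵁ ⊤)) (Coh.toAb F)).symm
          (a • (show Γ(F, f ⁻¹ᵁ (V.ι ''ᵁ ⊤)) from s)))) := by
    refine (congrArg (Loc.mulA (F.restrict (f ⁻¹ᵁ V).ι) g _ 0) (hsec s)).trans
      (Eq.trans ?_ (hsec _).symm)
    refine (Ext.mk₀_comp_mk₀ _ _).trans (congrArg Ext.mk₀ ?_)
    apply (homEquiv ((f ∣_ V) ⁻¹ᵁ ⊤) ((rV X (f ⁻¹ᵁ V)).obj (Coh.toAb F))).injective
    refine (homEquiv_comp _ _).trans ?_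
    refine (congrArg ((Coh.smulAb (F.restrict (f ⁻¹ᵁ V).ι) g).hom.app (op ((f ∣_ V) ⁻¹ᵁ ⊤)))
      ((homEquiv ((f ∣_ V) ⁻¹ᵁ ⊤) ((rV X (f ⁻¹ᵁ V)).obj (Coh.toAb F))).apply_symm_apply
        (F.presheaf.map (eqToHom he).op s))).trans (Eq.trans ?_
          ((homEquiv ((f ∣_ V) ⁻¹ᵁ ⊤) ((rV X (f ⁻¹ᵁ V)).obj (Coh.toAb F))).apply_symm_apply
            (F.presheaf.map (eqToHom he).op
              (a • (show Γ(F, f ⁻¹ᵁ (V.ι ''ᵁ ⊤)) from s)))).symm)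
    refine (Coh.smulAb_app (F.restrict (f ⁻¹ᵁ V).ι) g (op ((f ∣_ V) ⁻¹ᵁ ⊤))
      (F.presheaf.map (eqToHom he).op s)).trans ?_
    refine Eq.trans ?_ (F.map_smul (eqToHom he) a s).symm
    refine congrArg (fun k : Γ(X, (f ⁻¹ᵁ V).ι ''ᵁ ((f ∣_ V) ⁻¹ᵁ ⊤)) ↦
      k • (show Γ(F, (f ⁻¹ᵁ V).ι ''ᵁ ((f ∣_ V) ⁻¹ᵁ ⊤)) from
        F.presheaf.map (eqToHom he).op s)) ?_
    show ((f ⁻¹ᵁ V).ι.appIso ((f ∣_ V) ⁻¹ᵁ ⊤)).inv
        ((((f ⁻¹ᵁ V : X.Opens) : Scheme.{u}).presheaf.map (homOfLE le_top).op) ((f ∣_ V).app ⊤ r)) =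
      X.presheaf.map (eqToHom he).op (f.app (V.ι ''ᵁ ⊤) r)
    have hid : Y.presheaf.map (homOfLE (le_refl (V.ι ''ᵁ ⊤))).op r = r := by
      rw [show (homOfLE (le_refl (V.ι ''ᵁ ⊤))) = 𝟙 _ from Subsingleton.elim _ _, op_id,
        Y.presheaf.map_id]
      rfl
    refine Eq.trans ?_ (congrArg (fun k : Γ(Y, V.ι ''ᵁ ⊤) ↦
      X.presheaf.map (eqToHom he).op (f.app (V.ι ''ᵁ ⊤) k)) hid)
    rw [Scheme.Opens.ι_appIso, Scheme.Opens.toScheme_presheaf_map, morphismRestrict_app']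
    exact QCohR.appLE_restrict f _ _ _ he r
  refine (congrArg (εV E V 0 F) hm).trans ?_
  refine (congrArg (Sect.eps E (V.ι ''ᵁ ⊤) F 0) (AddEquiv.apply_symm_apply _ _)).trans ?_
  refine (Sect.eps_zero E _ F _).trans ?_
  refine Eq.trans ?_ (congrArg (fun k : Γ((Coh.Rpush f 0).obj F, V.ι ''ᵁ ⊤) ↦ r • k)
    ((congrArg (Sect.eps E (V.ι ''ᵁ ⊤) F 0) (AddEquiv.apply_symm_apply _ _)).trans
      ((Sect.eps_zero E _ F _).trans (congrArg _ (Equiv.apply_symm_apply _ _))))).symm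
  refine (congrArg (((pushforward f).toRightDerivedZero.app F).app (V.ι ''ᵁ ⊤))
    ((homEquiv (f ⁻¹ᵁ (V.ι ''ᵁ ⊤)) (Coh.toAb F)).apply_symm_apply
      (a • (show Γ(F, f ⁻¹ᵁ (V.ι ''ᵁ ⊤)) from s)))).trans ?_
  exact ((pushforward f).toRightDerivedZero.app F).app_smul r
    (show Γ((pushforward f).obj F, V.ι ''ᵁ ⊤) from s)

theorem εV_smul_succ (r : Γ(Y, V.ι ''ᵁ ⊤)) (p : ℕ)
    (ih : ∀ (F : X.Modules)
      (x : Ext.{u} (Zs.obj ((f ∣_ V) ⁻¹ᵁ ⊤)) ((rV X (f ⁻¹ᵁ V)).obj (Coh.toAb F)) p),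
      εV E V p F (Loc.mulA (F.restrict (f ⁻¹ᵁ V).ι) (Glue.pb (f ∣_ V) r) _ p x) =
        r • εV E V p F x) (F : X.Modules)
    (x : Ext.{u} (Zs.obj ((f ∣_ V) ⁻¹ᵁ ⊤)) ((rV X (f ⁻¹ᵁ V)).obj (Coh.toAb F)) (p + 1)) :
    εV E V (p + 1) F (Loc.mulA (F.restrict (f ⁻¹ᵁ V).ι) (Glue.pb (f ∣_ V) r) _ (p + 1) x) =
      r • εV E V (p + 1) F x := by
  let g := Glue.pb (f ∣_ V) r
  let he := image_morphismRestrict_preimage f V ⊤
  have hT : (abS (Sect.inj F)).ShortExact := abS_shortExact (Sect.inj_shortExact F)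
  have hA : ((abS (Sect.inj F)).map (rV X (f ⁻¹ᵁ V))).ShortExact :=
    hT.map_of_exact (rV X (f ⁻¹ᵁ V))
  obtain ⟨z, hz⟩ := Sect.exists_comp_extClass F p _ (al f V (Coh.toAb F) (p + 1) ⊤ x)
  obtain ⟨y, rfl⟩ := (al f V (Coh.toAb (Sect.inj F).X₃) p ⊤).surjective z
  have hal : ∀ y', al f V (Coh.toAb F) (p + 1) ⊤ (Ext.comp y' hA.extClass rfl) =
      (al f V (Coh.toAb (Sect.inj F).X₃) p ⊤ y').comp hT.extClass rfl := fun y' =>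
    (congrArg (fun k ↦ al f V (Coh.toAb F) (p + 1) ⊤ (Ext.comp y' k rfl))
      (Ext.mapExactFunctor_extClass (rV X (f ⁻¹ᵁ V)) hT).symm).trans
      (Bridge.alpha_comp (T := TT f V) (emb f V) he y' hT.extClass rfl)
  have hε : ∀ y', εV E V (p + 1) F (Ext.comp y' hA.extClass rfl) =
      (Δ.δ (Sect.inj F) (Sect.inj_shortExact F) p (p + 1) rfl).app (V.ι ''ᵁ ⊤)
        (εV E V p (Sect.inj F).X₃ y') := fun y' =>
    (congrArg (Sect.eps E (V.ι ''ᵁ ⊤) F (p + 1)) (hal y')).trans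
      (Sect.eps_delta E _ (Sect.inj_shortExact F) p _)
  obtain rfl : x = Ext.comp y hA.extClass rfl :=
    (al f V (Coh.toAb F) (p + 1) ⊤).injective (hz.symm.trans (hal y).symm)
  have hm : Loc.mulA ((Sect.inj F).X₁.restrict (f ⁻¹ᵁ V).ι) g _ (p + 1)
        (Ext.comp y hA.extClass rfl) =
      Ext.comp (Loc.mulA ((Sect.inj F).X₃.restrict (f ⁻¹ᵁ V).ι) g _ p y) hA.extClass rfl :=
    mulA_extClass V hA g y
  refine (congrArg (εV E V (p + 1) F) hm).trans ((hε _).trans ?_)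
  refine (congrArg _ (ih (Sect.inj F).X₃ y)).trans ?_
  refine ((Δ.δ (Sect.inj F) (Sect.inj_shortExact F) p (p + 1) rfl).app_smul r _).trans ?_
  exact congrArg (fun k : Γ((Coh.Rpush f (p + 1)).obj F, V.ι ''ᵁ ⊤) ↦ r • k) (hε y).symm


/-- Linearity of the comparison over the base. -/
theorem εV_smul (r : Γ(Y, V.ι ''ᵁ ⊤)) : ∀ (F : X.Modules)
    (x : Ext.{u} (Zs.obj ((f ∣_ V) ⁻¹ᵁ ⊤)) ((rV X (f ⁻¹ᵁ V)).obj (Coh.toAb F)) n),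
    εV E V n F (Loc.mulA (F.restrict (f ⁻¹ᵁ V).ι) (Glue.pb (f ∣_ V) r) _ n x) =
      r • εV E V n F x := by
  induction n with
  | zero => exact εV_smul_zero E V r
  | succ p ih => exact εV_smul_succ E V r p ih

end Groth.Agent.Lib.CohDelta.BC.EpsV
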