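import Groth.Agent.Lib.CohDelta.BC.PushCls
import Groth.Agent.Lib.CohDelta.Bridge

/-!
# Classes along a map and along its restriction to opens
-/

set_option autoImplicit false
set_option linter.style.haveILetI false
set_option maxHeartbeats 1000000

universe u

open CategoryTheory CategoryTheory.Limits TopologicalSpace Opposite CategoryTheory.Abelian
open Groth.Agent.Lib.ZarCoh.Basic Groth.Agent.Lib.ZarCoh.Compare

namespace Groth.Agent.Lib.CohDelta.BC.Along

variable {T T' X X' : TopCat.{u}} {e : T ⟶ X} {e' : T' ⟶ X'}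
  (he : Topology.IsOpenEmbedding e) (he' : Topology.IsOpenEmbedding e') (g : X' ⟶ X) (j : T' ⟶ T)
  (hsq : ∀ O : Opens T,
    he'.functor.obj ((Opens.map j).obj O) ≤ (Opens.map g).obj (he.functor.obj O))

/-- `(g_*A)|_T ⟶ j_*(A|_{T'})`. -/
noncomputable def β (A : CohTop.Ab X') :
    (rst he).obj ((CohTop.push g).obj A) ⟶ (CohTop.push j).obj ((rst he').obj A) :=
  ⟨{ app := fun O ↦ A.obj.map (homOfLE (hsq O.unop)).op
     naturality := fun O O' i ↦ by
      exact (A.obj.map_comp _ _).symm.trans
        ((congrArg A.obj.map (Subsingleton.elim _ _)).trans (A.obj.map_comp _ _)) }⟩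

theorem β_natural {A A' : CohTop.Ab X'} (α : A ⟶ A') :
    (rst he).map ((CohTop.push g).map α) ≫ β he he' g j hsq A' =
      β he he' g j hsq A ≫ (CohTop.push j).map ((rst he').map α) := by
  ext O : 3
  exact (α.hom.naturality (homOfLE (hsq O.unop)).op).symm

/-- A map over `g`, restricted. -/
noncomputable def res {F : CohTop.Ab X} {G : CohTop.Ab X'} (τ : F ⟶ (CohTop.push g).obj G) :
    (rst he).obj F ⟶ (CohTop.push j).obj ((rst he').obj G) :=
  (rst he).map τ ≫ β he he' g j hsq G

theorem res_app {F : CohTop.Ab X} {G : CohTop.Ab X'} (τ : F ⟶ (CohTop.push g).obj G) (O : Opens T)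
    (s : F.obj.obj (op (he.functor.obj O))) :
    (res he he' g j hsq τ).hom.app (op O) s =
      G.obj.map (homOfLE (hsq O)).op (τ.hom.app (op (he.functor.obj O)) s) := rfl

theorem res_comm {F F' : CohTop.Ab X} {G G' : CohTop.Ab X'} (τ : F ⟶ (CohTop.push g).obj G)
    (τ' : F' ⟶ (CohTop.push g).obj G') (a : F ⟶ F') (b : G ⟶ G')
    (h : τ ≫ (CohTop.push g).map b = a ≫ τ') :
    res he he' g j hsq τ ≫ (CohTop.push j).map ((rst he').map b) =
      (rst he).map a ≫ res he he' g j hsq τ' := by
  rw [res, res, Category.assoc, ← β_natural, ← Functor.map_comp_assoc, h, Functor.map_comp_assoc]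

/-- A map over `g` extends to injective embeddings. -/
theorem exists_extend {F : CohTop.Ab X} {G : CohTop.Ab X'} (τ : F ⟶ (CohTop.push g).obj G) :
    ∃ (τ₂ : (injSES F).X₂ ⟶ (CohTop.push g).obj (injSES G).X₂)
      (τ₃ : (injSES F).X₃ ⟶ (CohTop.push g).obj (injSES G).X₃),
      τ ≫ (CohTop.push g).map (injSES G).f = (injSES F).f ≫ τ₂ ∧
      τ₂ ≫ (CohTop.push g).map (injSES G).g = (injSES F).g ≫ τ₃ := by
  haveI : (CohTop.pull g).PreservesMonomorphisms := inferInstance
  haveI : Injective ((CohTop.push g).obj (injSES G).X₂) :=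
    Injective.injective_of_adjoint (ppAdj g) _
  let τ₂ := Injective.factorThru (τ ≫ (CohTop.push g).map (injSES G).f) (Injective.ι F)
  have h₁ : Injective.ι F ≫ τ₂ = τ ≫ (CohTop.push g).map (injSES G).f :=
    Injective.comp_factorThru _ _
  refine ⟨τ₂, cokernel.desc _ (τ₂ ≫ (CohTop.push g).map (injSES G).g) ?_, h₁.symm,
    (cokernel.π_desc _ _ _).symm⟩
  rw [← Category.assoc, h₁, Category.assoc, ← Functor.map_comp, (injSES G).zero,
    Functor.map_zero, comp_zero]

/-- Classes along a map restrict to classes along the restricted map. -/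
theorem alpha_along : ∀ (n : ℕ) {F : CohTop.Ab X} {G : CohTop.Ab X'}
    (τ : F ⟶ (CohTop.push g).obj G) {W : Opens T} {W₁ : Opens X} (hW : he.functor.obj W = W₁)
    {W'₁ : Opens X'} (hW' : he'.functor.obj ((Opens.map j).obj W) = W'₁)
    (hle : W'₁ ≤ (Opens.map g).obj W₁) (x : Ext.{u} (Zs.obj W) ((rst he).obj F) n),
    Bridge.alpha he' G n hW' (PushCls.along j W (res he he' g j hsq τ) n x) =
      rs G n hle (PushCls.along g W₁ τ n (Bridge.alpha he F n hW x)) := by
  intro n
  induction n with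
  | zero =>
    intro F G τ W W₁ hW W'₁ hW' hle x
    subst hW hW'
    obtain ⟨y, rfl⟩ := (Bridge.alpha he F 0 rfl).symm.surjective x
    obtain ⟨a, rfl⟩ := (Ext.mk₀_bijective _ _).2 y
    obtain ⟨s, rfl⟩ := (homEquiv (he.functor.obj W) F).symm.surjective a
    rw [AddEquiv.apply_symm_apply]
    have hx : (Bridge.alpha he F 0 rfl).symm (Ext.mk₀ ((homEquiv (he.functor.obj W) F).symm s)) =
        Ext.mk₀ ((homEquiv W ((rst he).obj F)).symm
          (F.obj.map (eqToHom (rfl : he.functor.obj W = _)).op s)) :=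
      (AddEquiv.symm_apply_eq _).2 (Bridge.alpha_mk₀ he F rfl s).symm
    have hs : F.obj.map (eqToHom (rfl : he.functor.obj W = _)).op s = s := by simp
    rw [hx, hs, PushCls.along_mk₀, PushCls.along_mk₀]
    refine Eq.trans ?_ (rs_mk₀ _ hle _).symm
    have h1 : (homEquiv W ((rst he).obj F)) ((homEquiv W ((rst he).obj F)).symm s) = s :=
      Equiv.apply_symm_apply _ _
    have h2 : (homEquiv (he.functor.obj W) F) ((homEquiv (he.functor.obj W) F).symm s) = s :=
      Equiv.apply_symm_apply _ _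
    rw [h1, h2, res_app]
    refine Eq.trans ?_ ((Bridge.alpha_mk₀ he' G rfl
      (G.obj.map (homOfLE (hsq W)).op (τ.hom.app (op (he.functor.obj W)) s))).trans
      (congrArg Ext.mk₀ ?_))
    · refine congrArg (fun k ↦ Bridge.alpha he' G 0 rfl (Ext.mk₀ ((homEquiv _ _).symm k))) ?_
      exact (congr($(G.obj.map_id _) (G.obj.map (homOfLE (hsq W)).op
        (τ.hom.app (op (he.functor.obj W)) s)))).symm
    · apply (homEquiv _ G).injective
      rw [homEquiv_res, Equiv.apply_symm_apply]
      exact congrArg (fun k ↦ G.obj.map (homOfLE hle).op k)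
        (Equiv.apply_symm_apply (homEquiv _ G) _).symm
  | succ n ih =>
    intro F G τ W W₁ hW W'₁ hW' hle x
    obtain ⟨τ₂, τ₃, h₁₂, h₂₃⟩ := exists_extend g τ
    have hS := injSES_shortExact F
    have hT := injSES_shortExact G
    obtain ⟨z, hz⟩ := Ext.covariant_sequence_exact₁ _ hS (Bridge.alpha he F (n + 1) hW x)
      (Ext.eq_zero_of_injective _) (n₀ := n) rfl
    obtain ⟨y, rfl⟩ := (Bridge.alpha he (injSES F).X₃ n hW).surjective z
    have hS' := hS.map_of_exact (rst he)
    have hT' := hT.map_of_exact (rst he')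
    have hx : x = y.comp hS'.extClass rfl := by
      apply (Bridge.alpha he F (n + 1) hW).injective
      refine hz.symm.trans ?_
      refine Eq.trans ?_ (congrArg (fun k ↦ Bridge.alpha he F (n + 1) hW (Ext.comp y k rfl))
        (Ext.mapExactFunctor_extClass (rst he) hS))
      exact (Bridge.alpha_comp he hW y hS.extClass rfl).symm
    rw [hx]
    refine (congrArg (Bridge.alpha he' G (n + 1) hW')
      (PushCls.along_δ j W hS' hT' (res he he' g j hsq τ) (res he he' g j hsq τ₂)
        (res he he' g j hsq τ₃) (res_comm he he' g j hsq τ τ₂ _ _ h₁₂)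
        (res_comm he he' g j hsq τ₂ τ₃ _ _ h₂₃) n y)).trans ?_
    refine (congrArg (fun k ↦ Bridge.alpha he' G (n + 1) hW'
      (Ext.comp (PushCls.along j W (res he he' g j hsq τ₃) n y) k rfl))
        (Ext.mapExactFunctor_extClass (rst he') hT).symm).trans ?_
    refine (Bridge.alpha_comp he' hW' _ hT.extClass rfl).trans ?_
    rw [ih τ₃ hW hW' hle y]
    refine (rs_comp n rfl hle _ hT.extClass).symm.trans (congrArg (rs G (n + 1) hle) ?_)
    refine (PushCls.along_δ g W₁ hS hT τ τ₂ τ₃ h₁₂ h₂₃ n _).symm.trans ?_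
    exact congrArg (PushCls.along g W₁ τ (n + 1)) (hz.trans (congrArg _ hx))

end Groth.Agent.Lib.CohDelta.BC.Along
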