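import Groth.Agent.Lib.CohDelta.BC.Main
import Groth.Agent.Lib.CohDelta.BC.Along
import Groth.Agent.Lib.CohDelta.Res

/-!
# `CohPull.pullOn` is the map of classes along a morphism
-/

set_option autoImplicit false
set_option linter.style.haveILetI false
set_option linter.unusedSectionVars false
set_option maxHeartbeats 1000000

universe u

open CategoryTheory CategoryTheory.Limits TopologicalSpace Opposite CategoryTheory.Abelian
open Groth.Agent.Lib.ZarCoh.Basic Groth.Agent.Lib.ZarCoh.Compare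

namespace Groth.Agent.Lib.CohDelta.BC.PullOn

section Top

variable {X Y : TopCat.{u}} (j : X ⟶ Y)

theorem topIso_oneTo :
    (topIso (X := X)).hom ≫ CohPull.oneTo j =
      pullGen j (⊤ : Opens Y) ≫ (CohTop.pull j).map (topIso (X := Y)).hom := by
  let c := CohTop.const Y (ULift.{u} ℤ)
  have hY : (topIso (X := Y)).hom.hom.app (op ⊤) (gen (⊤ : Opens Y)) =
      constEquiv c (𝟙 c) :=
    (homEquiv_apply _).symm.trans (Equiv.apply_symm_apply _ _)
  have h1 : constEquiv _ (CohPull.oneTo j) =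
      ((CohPull.invPushAdj j).unit.app c).hom.app (op ⊤) (constEquiv c (𝟙 c)) := by
    show ((CohPull.adjZ X).homEquiv _ _ (CohPull.oneTo j)).hom (ULift.up 1) = _
    rw [CohPull.oneTo, Equiv.apply_symm_apply]
    rfl
  have h2 := congrArg (fun t ↦ t.hom.app (op (⊤ : Opens Y)) (gen (⊤ : Opens Y)))
    ((ppAdj j).unit.naturality (topIso (X := Y)).hom)
  apply (homEquiv (⊤ : Opens X) _).injective
  refine (homEquiv_comp _ _).trans ?_
  refine Eq.trans ?_ (homEquiv_comp _ _).symm
  have h3 : homEquiv (⊤ : Opens X) _ ((topIso (X := X)).hom) = constEquiv _ (𝟙 _) :=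
    Equiv.apply_symm_apply _ _
  refine (congrArg _ h3).trans ?_
  refine ((constEquiv_comp _ _).symm.trans (congrArg (constEquiv _) (Category.id_comp _))).trans ?_
  refine h1.trans ?_
  refine Eq.trans ?_ (congrArg _ (Equiv.apply_symm_apply (homEquiv ((Opens.map j).obj (⊤ : Opens Y)) _) _)).symm
  exact (congrArg (((ppAdj j).unit.app c).hom.app (op ⊤)) hY.symm).trans h2

/-- `pullAb` in the `HU` model. -/
theorem hTop_pullAb (M : CohTop.Ab Y) (n : ℕ) (x : Sheaf.H M n) :
    hTop ((CohPull.inv j).obj M) n (CohPull.pullAb j M n x) =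
      cmp (CohTop.pull j) (pullGen j (⊤ : Opens Y)) n M (hTop M n x) := by
  rw [cmp_apply]
  show (Ext.mk₀ (topIso (X := X)).hom).comp
      ((Ext.mk₀ (CohPull.oneTo j)).comp (x.mapExactFunctor (CohTop.pull j)) (zero_add n)) (zero_add n) =
    (Ext.mk₀ (pullGen j (⊤ : Opens Y))).comp
      (((Ext.mk₀ (topIso (X := Y)).hom).comp x (zero_add n)).mapExactFunctor (CohTop.pull j))
      (zero_add n)
  rw [Ext.mapExactFunctor_comp, Ext.mapExactFunctor_mk₀]
  refine (Ext.mk₀_comp_mk₀_assoc _ _ _).trans (Eq.trans ?_ (Ext.mk₀_comp_mk₀_assoc _ _ _).symm)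
  exact congrArg (fun k ↦ (Ext.mk₀ k).comp (x.mapExactFunctor (CohTop.pull j)) (zero_add n))
    (topIso_oneTo j)

end Top

open AlgebraicGeometry AlgebraicGeometry.Scheme.Modules Groth.Agent.Lib.CohDelta.Basic

variable {X X' : Scheme.{u}}

/-- `pullMod` in the `HU` model. -/
theorem hTop_pullMod (j : X' ⟶ X) (M : X.Modules) (n : ℕ) (x : Coh.HH X M n) :
    hTop (Coh.toAb ((Scheme.Modules.pullback j).obj M)) n (CohPull.pullMod j M n x) =
      PushCls.along j.base (⊤ : X.Opens) (abMap ((pullbackPushforwardAdjunction j).unit.app M)) n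
        (hTop (Coh.toAb M) n x) := by
  refine Eq.trans ?_ (PushCls.along_eq j.base (⊤ : X.Opens)
    (F := Coh.toAb M) (G := Coh.toAb ((Scheme.Modules.pullback j).obj M))
    (abMap ((pullbackPushforwardAdjunction j).unit.app M)) n _).symm
  refine (hTop_comp (CohPull.pullAb j.base (Coh.toAb M) n x) (Ext.mk₀ (CohPull.theta j M))
    (add_zero n)).trans ?_
  exact congrArg (fun k ↦ Ext.comp k (Ext.mk₀ (CohPull.theta j M)) (add_zero n))
    (hTop_pullAb j.base (Coh.toAb M) n x)

theorem hsq (g : X' ⟶ X) {U : X.Opens} {U' : X'.Opens} (hU : U' ≤ g ⁻¹ᵁ U)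
    (O : (U : Scheme.{u}).Opens) :
    U'.ι ''ᵁ (Beta.jj g hU ⁻¹ᵁ O) ≤ g ⁻¹ᵁ (U.ι ''ᵁ O) := Beta.image_jj_le g hU O

/-- `along` the unit, followed by the identification of pullbacks, is restriction of `along` the unit. -/
theorem along_pon (g : X' ⟶ X) {U : X.Opens} {U' : X'.Opens} (hU : U' ≤ g ⁻¹ᵁ U) (M : X.Modules)
    (W : (U : Scheme.{u}).Opens) (n : ℕ)
    (x : Ext.{u} (Zs.obj W) (Coh.toAb (M.restrict U.ι)) n) :
    (PushCls.along (Beta.jj g hU).base W
        (abMap ((pullbackPushforwardAdjunction (Beta.jj g hU)).unit.app (M.restrict U.ι))) n x).comp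
      (Ext.mk₀ (abMap ((Units.pon g (Beta.jj g hU) (Scheme.Hom.resLE_comp_ι g hU)).app M)))
      (add_zero n) =
    PushCls.along (Beta.jj g hU).base W
      ((QCohR.rV X U).map (abMap ((pullbackPushforwardAdjunction g).unit.app M)) ≫
        Beta.β g hU (Coh.toAb ((Scheme.Modules.pullback g).obj M))) n x := by
  have h := PushCls.along_natural (Beta.jj g hU).base W (𝟙 _)
    (abMap ((Units.pon g (Beta.jj g hU) (Scheme.Hom.resLE_comp_ι g hU)).app M))
    (abMap ((pullbackPushforwardAdjunction (Beta.jj g hU)).unit.app (M.restrict U.ι)))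
    ((QCohR.rV X U).map (abMap ((pullbackPushforwardAdjunction g).unit.app M)) ≫
      Beta.β g hU (Coh.toAb ((Scheme.Modules.pullback g).obj M)))
    ((Category.id_comp _).trans (Main.unit_β g hU M)) n x
  rw [Ext.comp_mk₀_id] at h
  exact h.symm

/-- `pullOn` on the restricted schemes. -/
theorem hTop_pullOn (g : X' ⟶ X) {U : X.Opens} {U' : X'.Opens} (hU : U' ≤ g ⁻¹ᵁ U) (M : X.Modules)
    (n : ℕ) (y : Coh.HHon X M U n) :
    hTop (Coh.toAb (((Scheme.Modules.pullback g).obj M).restrict U'.ι)) n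
        (CohPull.pullOn g U U' hU M n y) =
      PushCls.along (Beta.jj g hU).base (⊤ : (U : Scheme.{u}).Opens)
        ((QCohR.rV X U).map (abMap ((pullbackPushforwardAdjunction g).unit.app M)) ≫
          Beta.β g hU (Coh.toAb ((Scheme.Modules.pullback g).obj M))) n
        (hTop (Coh.toAb (M.restrict U.ι)) n y) := by
  refine Eq.trans ?_ (along_pon g hU M ⊤ n _)
  refine (hTop_comp (CohPull.pullMod (Beta.jj g hU) (M.restrict U.ι) n y)
    (Ext.mk₀ (abMap (CohPull.pullOnIso g U U' hU M).hom)) (add_zero n)).trans ?_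
  exact congrArg (fun k ↦ Ext.comp k (Ext.mk₀ (abMap (CohPull.pullOnIso g U U' hU M).hom))
    (add_zero n)) (hTop_pullMod (Beta.jj g hU) (M.restrict U.ι) n y)

/-- Restricted classes along the unit, on the ambient schemes. -/
theorem alpha_along_unit (g : X' ⟶ X) {U : X.Opens} {U' : X'.Opens} (hU : U' ≤ g ⁻¹ᵁ U)
    (M : X.Modules) {W : (U : Scheme.{u}).Opens} {W₁ : X.Opens} (hW : U.ι ''ᵁ W = W₁)
    {W'₁ : X'.Opens} (hW' : U'.ι ''ᵁ (Beta.jj g hU ⁻¹ᵁ W) = W'₁) (hle : W'₁ ≤ g ⁻¹ᵁ W₁) (n : ℕ)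
    (x : Ext.{u} (Zs.obj W) ((QCohR.rV X U).obj (Coh.toAb M)) n) :
    Bridge.alpha (T := (U' : Scheme.{u}).toPresheafedSpace.carrier) U'.ι.isOpenEmbedding
        (Coh.toAb ((Scheme.Modules.pullback g).obj M)) n hW'
        (PushCls.along (Beta.jj g hU).base W
          ((QCohR.rV X U).map (abMap ((pullbackPushforwardAdjunction g).unit.app M)) ≫
            Beta.β g hU (Coh.toAb ((Scheme.Modules.pullback g).obj M))) n x) =
      rs (Coh.toAb ((Scheme.Modules.pullback g).obj M)) n hle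
        (PushCls.along g.base W₁ (abMap ((pullbackPushforwardAdjunction g).unit.app M)) n
          (Bridge.alpha (T := (U : Scheme.{u}).toPresheafedSpace.carrier) U.ι.isOpenEmbedding
            (Coh.toAb M) n hW x)) :=
  Along.alpha_along (T := (U : Scheme.{u}).toPresheafedSpace.carrier)
    (T' := (U' : Scheme.{u}).toPresheafedSpace.carrier) U.ι.isOpenEmbedding U'.ι.isOpenEmbedding
    g.base (Beta.jj g hU).base (hsq g hU) n (F := Coh.toAb M)
    (G := Coh.toAb ((Scheme.Modules.pullback g).obj M))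
    (abMap ((pullbackPushforwardAdjunction g).unit.app M)) hW hW' hle x

/-- `pullOn` in the `HU` model. -/
theorem hU_pullOn (g : X' ⟶ X) {U : X.Opens} {U' : X'.Opens} (hU : U' ≤ g ⁻¹ᵁ U) (M : X.Modules)
    (n : ℕ) (y : Coh.HHon X M U n) :
    Basic.hU ((Scheme.Modules.pullback g).obj M) U' n (CohPull.pullOn g U U' hU M n y) =
      rs (Coh.toAb ((Scheme.Modules.pullback g).obj M)) n hU
        (PushCls.along g.base U (abMap ((pullbackPushforwardAdjunction g).unit.app M)) n
          (Basic.hU M U n y)) :=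
  (congrArg (Bridge.alpha (T := (U' : Scheme.{u}).toPresheafedSpace.carrier) U'.ι.isOpenEmbedding
      (Coh.toAb ((Scheme.Modules.pullback g).obj M)) n U'.ι_image_top)
    (hTop_pullOn g hU M n y)).trans
      (alpha_along_unit g hU M (W := ⊤) U.ι_image_top U'.ι_image_top hU n _)

end Groth.Agent.Lib.CohDelta.BC.PullOn
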