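import Groth.Agent.Lib.CohDelta.Syzygy
import Groth.Prelude.Def_CohBC2

/-!
# The base change morphism through injective resolutions

`pR I f n : f_* Zⁿ ⟶ Rⁿf_*` and the formula `pR ≫ bcQAdj = f_*ψ ≫ (square) ≫ g_* pR'`.
-/

set_option linter.style.haveILetI false
set_option maxHeartbeats 1000000

universe u

open CategoryTheory CategoryTheory.Limits AlgebraicGeometry AlgebraicGeometry.Scheme.Modules
open Groth.Agent.Lib.CohDelta.Syzygy

namespace Groth.Agent.Lib.CohDelta.BC.Lift

variable {X S : Scheme.{u}} {M : X.Modules}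

instance pushforward_preservesFiniteLimits (f : X ⟶ S) :
    PreservesFiniteLimits (pushforward f) :=
  haveI : PreservesLimitsOfSize.{0, 0} (pushforward f) :=
    (pullbackPushforwardAdjunction f).rightAdjoint_preservesLimits
  PreservesLimitsOfSize.preservesFiniteLimits _

theorem augIso_ι (I : InjectiveResolution M) :
    (augIso I).hom ≫ kernel.ι (I.cocomplex.d 0 (0 + 1)) = I.ι.f 0 :=
  IsLimit.conePointUniqueUpToIso_hom_comp I.isLimitKernelFork (limit.isLimit _)
    WalkingParallelPair.zero

section Proj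

variable (I : InjectiveResolution M) (f : X ⟶ S)

/-- The complex computing `Rf_*`. -/
noncomputable abbrev K : CochainComplex S.Modules ℕ :=
  ((pushforward f).mapHomologicalComplex (ComplexShape.up ℕ)).obj I.cocomplex

theorem map_ι_d (n : ℕ) :
    (pushforward f).map (kernel.ι (I.cocomplex.d n (n + 1))) ≫ (K I f).d n (n + 1) = 0 :=
  (((pushforward f).map_comp _ _).symm.trans
    (congrArg (pushforward f).map (kernel.condition _))).trans ((pushforward f).map_zero _ _)

/-- `f_* Zⁿ` as a kernel. -/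
noncomputable def isKernel (n : ℕ) : IsLimit (KernelFork.ofι _ (map_ι_d I f n)) :=
  isLimitForkMapOfIsLimit' (pushforward f) (kernel.condition _)
    (kernelIsKernel (I.cocomplex.d n (n + 1)))

/-- Cycles are `f_* Zⁿ`. -/
noncomputable def cyc (n : ℕ) : (K I f).cycles n ≅ (pushforward f).obj (Z I n) :=
  IsLimit.conePointUniqueUpToIso ((K I f).cyclesIsKernel n (n + 1) (by simp)) (isKernel I f n)

theorem cyc_inv_i (n : ℕ) :
    (cyc I f n).inv ≫ (K I f).iCycles n =
      (pushforward f).map (kernel.ι (I.cocomplex.d n (n + 1))) :=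
  IsLimit.conePointUniqueUpToIso_inv_comp ((K I f).cyclesIsKernel n (n + 1) (by simp))
    (isKernel I f n) WalkingParallelPair.zero

theorem toCycles_cyc (n : ℕ) :
    (K I f).toCycles n (n + 1) = (pushforward f).map (t I n) ≫ (cyc I f (n + 1)).inv := by
  rw [← cancel_mono ((K I f).iCycles (n + 1)), HomologicalComplex.toCycles_i]
  refine Eq.trans ?_ ((congrArg ((pushforward f).map (t I n) ≫ ·) (cyc_inv_i I f (n + 1))).symm.trans
    (Category.assoc _ _ _).symm)
  exact (congrArg (pushforward f).map (t_ι I n)).symm.trans ((pushforward f).map_comp _ _)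

variable [HasInjectiveResolutions X.Modules]

/-- `f_* Zⁿ ⟶ Rⁿ f_* M`. -/
noncomputable def pR (n : ℕ) :
    (pushforward f).obj (Z I n) ⟶ ((pushforward f).rightDerived n).obj M :=
  (cyc I f n).inv ≫ (K I f).homologyπ n ≫ (I.isoRightDerivedObj (pushforward f) n).inv

theorem t_pR (n : ℕ) : (pushforward f).map (t I n) ≫ pR I f (n + 1) = 0 := by
  refine (Category.assoc _ _ _).symm.trans ?_
  refine (congrArg (fun k ↦ k ≫ (K I f).homologyπ (n + 1) ≫ (I.isoRightDerivedObj (pushforward f) (n + 1)).inv)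
    (toCycles_cyc I f n).symm).trans ?_
  exact (Category.assoc _ _ _).symm.trans ((congrArg (· ≫ (I.isoRightDerivedObj (pushforward f) (n + 1)).inv)
    ((K I f).toCycles_comp_homologyπ n (n + 1))).trans zero_comp)

theorem isIso_pR_zero : IsIso (pR I f 0) := by
  haveI : IsIso ((K I f).homologyπ 0) := (K I f).isIso_homologyπ _ 0 rfl
    (HomologicalComplex.shape _ _ _ (by simp))
  unfold pR
  exact IsIso.comp_isIso

/-- `Rᵖ⁺¹f_* M` is the cokernel, compatibly with `pR`. -/
theorem exists_iso_R (p : ℕ) :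
    ∃ e : R I f p ≅ ((pushforward f).rightDerived (p + 1)).obj M,
      cokernel.π ((pushforward f).map (t I p)) ≫ e.hom = pR I f (p + 1) := by
  have hc := (K I f).homologyIsCokernel p (p + 1) (by simp)
  let e₁ : cokernel ((pushforward f).map (t I p)) ≅ cokernel ((K I f).toCycles p (p + 1)) :=
    cokernel.mapIso _ _ (Iso.refl _) (cyc I f (p + 1)).symm
      ((toCycles_cyc I f p).symm.trans (Category.id_comp _).symm)
  refine ⟨e₁ ≪≫ (IsColimit.coconePointUniqueUpToIso hc (colimit.isColimit _)).symm ≪≫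
    (I.isoRightDerivedObj (pushforward f) (p + 1)).symm, ?_⟩
  have h1 : cokernel.π ((K I f).toCycles p (p + 1)) ≫
      (IsColimit.coconePointUniqueUpToIso hc (colimit.isColimit _)).inv = (K I f).homologyπ (p + 1) :=
    IsColimit.comp_coconePointUniqueUpToIso_inv hc (colimit.isColimit _) WalkingParallelPair.one
  have h2 : cokernel.π ((pushforward f).map (t I p)) ≫ e₁.hom =
      (cyc I f (p + 1)).inv ≫ cokernel.π ((K I f).toCycles p (p + 1)) := cokernel.π_desc _ _ _
  refine (Category.assoc _ _ _).symm.trans ((congrArg (fun k ↦ k ≫ _) h2).trans ?_)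
  refine (Category.assoc _ _ _).trans (congrArg ((cyc I f (p + 1)).inv ≫ ·) ?_)
  exact (Category.assoc _ _ _).symm.trans (congrArg (fun k ↦ k ≫ _) h1)

end Proj

section Psi

variable {X' : Scheme.{u}} {g' : X' ⟶ X} (I : InjectiveResolution M) {G : X'.Modules}
  (J : InjectiveResolution G)
  (φ : I.cocomplex ⟶ ((pushforward g').mapHomologicalComplex (ComplexShape.up ℕ)).obj J.cocomplex)

theorem ψ_aux (n : ℕ) :
    (kernel.ι (I.cocomplex.d n (n + 1)) ≫ φ.f n) ≫ (pushforward g').map (J.cocomplex.d n (n + 1)) = 0 :=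
  (Category.assoc _ _ _).trans ((congrArg (kernel.ι (I.cocomplex.d n (n + 1)) ≫ ·) (φ.comm n (n + 1))).trans
    ((Category.assoc _ _ _).symm.trans
      ((congrArg (· ≫ φ.f (n + 1)) (kernel.condition _)).trans zero_comp)))

/-- The map on syzygies. -/
noncomputable def ψ (n : ℕ) : Z I n ⟶ (pushforward g').obj (Z J n) :=
  (isKernel J g' n).lift (KernelFork.ofι _ (ψ_aux I J φ n))

theorem ψ_ι (n : ℕ) :
    ψ I J φ n ≫ (pushforward g').map (kernel.ι (J.cocomplex.d n (n + 1))) =
      kernel.ι (I.cocomplex.d n (n + 1)) ≫ φ.f n :=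
  (isKernel J g' n).fac _ WalkingParallelPair.zero

theorem t_ψ (n : ℕ) :
    t I n ≫ ψ I J φ (n + 1) = φ.f n ≫ (pushforward g').map (t J n) := by
  apply Fork.IsLimit.hom_ext (isKernel J g' (n + 1))
  show (t I n ≫ ψ I J φ (n + 1)) ≫ (pushforward g').map (kernel.ι _) =
    (φ.f n ≫ (pushforward g').map (t J n)) ≫ (pushforward g').map (kernel.ι _)
  refine (Category.assoc _ _ _).trans ((congrArg (t I n ≫ ·) (ψ_ι I J φ (n + 1))).trans ?_)
  refine ((Category.assoc _ _ _).symm.trans (congrArg (· ≫ φ.f (n + 1)) (t_ι I n))).trans ?_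
  refine (φ.comm n (n + 1)).symm.trans ((congrArg (φ.f n ≫ ·) ?_).trans (Category.assoc _ _ _).symm)
  exact (congrArg (pushforward g').map (t_ι J n)).symm.trans ((pushforward g').map_comp _ _)

theorem augIso_ψ {η : M ⟶ (pushforward g').obj G}
    (h0 : I.ι.f 0 ≫ φ.f 0 = η ≫ (pushforward g').map (J.ι.f 0)) :
    (augIso I).hom ≫ ψ I J φ 0 = η ≫ (pushforward g').map (augIso J).hom := by
  apply Fork.IsLimit.hom_ext (isKernel J g' 0)
  show ((augIso I).hom ≫ ψ I J φ 0) ≫ (pushforward g').map (kernel.ι _) =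
    (η ≫ (pushforward g').map (augIso J).hom) ≫ (pushforward g').map (kernel.ι _)
  refine (Category.assoc _ _ _).trans ((congrArg ((augIso I).hom ≫ ·) (ψ_ι I J φ 0)).trans ?_)
  refine ((Category.assoc _ _ _).symm.trans (congrArg (· ≫ φ.f 0) (augIso_ι I))).trans
    (h0.trans ?_)
  refine (congrArg (η ≫ ·) ?_).trans (Category.assoc _ _ _).symm
  exact (congrArg (pushforward g').map (augIso_ι J)).symm.trans ((pushforward g').map_comp _ _)

end Psi

section Chase

variable {B : Type*} [Category B] [Abelian B] {C : Type*} [Category C] [Abelian C]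
  (Ψ : B ⥤ C) [Ψ.Additive] [PreservesFiniteLimits Ψ] {ι : Type*} {c : ComplexShape ι}

theorem homology_chase {K₀ K₁ K₂ : HomologicalComplex C c} (a : K₀ ⟶ K₁) (b : K₁ ⟶ K₂)
    {D : HomologicalComplex B c} (d : K₂ ⟶ (Ψ.mapHomologicalComplex c).obj D)
    (n : ι) {A : C} (e : A ⟶ K₀.cycles n) {R₀ : C}
    (i : R₀ ≅ K₀.homology n) {R₁ : B} (j : D.homology n ⟶ R₁) (β : R₀ ⟶ Ψ.obj R₁) {A' : B}
    (e' : A' ⟶ D.cycles n) (x : A ⟶ Ψ.obj A')
    (hβ : β = i.hom ≫ HomologicalComplex.homologyMap a n ≫ HomologicalComplex.homologyMap b n ≫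
      HomologicalComplex.homologyMap d n ≫ RDer.homologyComparison Ψ D n ≫ Ψ.map j)
    (hx : e ≫ HomologicalComplex.cyclesMap a n ≫ HomologicalComplex.cyclesMap b n ≫
      HomologicalComplex.cyclesMap d n ≫ RDer.cyclesComparison Ψ D n = x ≫ Ψ.map e') :
    (e ≫ K₀.homologyπ n ≫ i.inv) ≫ β = x ≫ Ψ.map (e' ≫ D.homologyπ n ≫ j) := by
  subst hβ
  simp only [Category.assoc, Iso.inv_hom_id_assoc, HomologicalComplex.homologyπ_naturality_assoc,
    RDer.homologyπ_homologyComparison_assoc, Functor.map_comp, reassoc_of% hx]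

end Chase

section Square

variable {X' S' : Scheme.{u}} (f : X ⟶ S) (g : S' ⟶ S) (f' : X' ⟶ S') (g' : X' ⟶ X)
  (w : g' ≫ f = f' ≫ g)

/-- The identification of the two composite direct images. -/
noncomputable def sq :
    pushforward g' ⋙ pushforward f ≅ pushforward f' ⋙ pushforward g :=
  pushforwardComp g' f ≪≫ pushforwardCongr w ≪≫ (pushforwardComp f' g).symm

/-- `f_* a`, the square, `g_* c`. -/
noncomputable def comb {A : X.Modules} {B : X'.Modules} {C : S'.Modules}
    (a : A ⟶ (pushforward g').obj B) (c : (pushforward f').obj B ⟶ C) :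
    (pushforward f).obj A ⟶ (pushforward g).obj C :=
  ((pushforward f).map a ≫ (sq f g f' g' w).hom.app B) ≫ (pushforward g).map c

variable [HasInjectiveResolutions X.Modules] [HasInjectiveResolutions X'.Modules]
  [PreservesFiniteLimits (Scheme.Modules.pullback g')]

/-- `bcQAdj` through the chosen resolutions. -/
theorem exists_lift (M : X.Modules) (n : ℕ) :
    ∃ φ : (injectiveResolution M).cocomplex ⟶
        ((pushforward g').mapHomologicalComplex (ComplexShape.up ℕ)).obj
          (injectiveResolution ((Scheme.Modules.pullback g').obj M)).cocomplex,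
      (injectiveResolution M).ι.f 0 ≫ φ.f 0 =
          (pullbackPushforwardAdjunction g').unit.app M ≫
            (pushforward g').map ((injectiveResolution ((Scheme.Modules.pullback g').obj M)).ι.f 0) ∧
        pR (injectiveResolution M) f n ≫ CohBC.bcQAdj f g f' g' w n M =
          comb f g f' g' w (ψ (injectiveResolution M) (injectiveResolution ((Scheme.Modules.pullback g').obj M)) φ n)
            (pR (injectiveResolution ((Scheme.Modules.pullback g').obj M)) f' n) := by
  let I := injectiveResolution M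
  let G := (Scheme.Modules.pullback g').obj M
  let J := injectiveResolution G
  let L := injectiveResolution ((pushforward g').obj G)
  let η : M ⟶ (pushforward g').obj G := (pullbackPushforwardAdjunction g').unit.app M
  let d₁ : I.cocomplex ⟶ L.cocomplex := InjectiveResolution.desc η L I
  let d₂ : L.cocomplex ⟶ ((pushforward g').mapHomologicalComplex (ComplexShape.up ℕ)).obj J.cocomplex :=
    RDer.descToInjectives (𝟙 ((pushforward g').obj G)) L.cocomplex L.ι
      (((pushforward g').mapHomologicalComplex _).obj J.cocomplex) (RDer.mapAug (pushforward g') J.ι)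
  have h1 : I.ι.f 0 ≫ d₁.f 0 = η ≫ L.ι.f 0 := InjectiveResolution.desc_commutes_zero η L I
  have h2 : L.ι.f 0 ≫ d₂.f 0 = (pushforward g').map (J.ι.f 0) := by
    refine (RDer.ι_descToInjectives_f_zero _ _ _ _ _).trans ((Category.id_comp _).trans ?_)
    simp [HomologicalComplex.singleMapHomologicalComplex_inv_app_self]
    exact Category.id_comp _
  refine ⟨d₁ ≫ d₂, ?_, ?_⟩
  · show I.ι.f 0 ≫ d₁.f 0 ≫ d₂.f 0 = η ≫ _
    refine (Category.assoc _ _ _).symm.trans ((congrArg (· ≫ d₂.f 0) h1).trans ?_)
    exact (Category.assoc _ _ _).trans (congrArg (η ≫ ·) h2)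
  · let Φ₁ := ((pushforward f).mapHomologicalComplex (ComplexShape.up ℕ)).map d₁
    let Φ₂ := ((pushforward f).mapHomologicalComplex (ComplexShape.up ℕ)).map d₂
    let Φ₃ := (NatTrans.mapHomologicalComplex (sq f g f' g' w).hom (ComplexShape.up ℕ)).app J.cocomplex
    let F := fun m ↦ (HomologicalComplex.homologyFunctor S.Modules (ComplexShape.up ℕ) m)
    have hη : (Coh.Rpush f n).map η = (I.isoRightDerivedObj (pushforward f) n).hom ≫
        (F n).map Φ₁ ≫ (L.isoRightDerivedObj (pushforward f) n).inv := by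
      refine Eq.trans ?_ (Category.assoc _ _ _)
      rw [Iso.eq_comp_inv]
      exact InjectiveResolution.isoRightDerivedObj_hom_naturality η I L d₁ h1 (pushforward f) n
    have hsq : (CohBC.RpushSquareIso f g f' g' w n).hom.app G =
        (J.isoRightDerivedObj (pushforward g' ⋙ pushforward f) n).hom ≫ (F n).map Φ₃ ≫
          (J.isoRightDerivedObj (pushforward f' ⋙ pushforward g) n).inv :=
      InjectiveResolution.rightDerived_app_eq (sq f g f' g' w).hom J n
    have hbc : CohBC.bcQAdj f g f' g' w n M = (I.isoRightDerivedObj (pushforward f) n).hom ≫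
        (F n).map Φ₁ ≫ (F n).map Φ₂ ≫ (F n).map Φ₃ ≫
          RDer.homologyComparison (pushforward g) (K J f') n ≫
            (pushforward g).map (J.isoRightDerivedObj (pushforward f') n).inv := by
      unfold CohBC.bcQAdj RDer.edgeIn RDer.edgeOut
      rw [hη, hsq]
      simp only [I, J, L, G, η, F, Category.assoc, Iso.inv_hom_id_assoc]
      erw [Iso.inv_hom_id_assoc]
      rfl
    have hcyc : (cyc I f n).inv ≫ HomologicalComplex.cyclesMap Φ₁ n ≫
        HomologicalComplex.cyclesMap Φ₂ n ≫ HomologicalComplex.cyclesMap Φ₃ n ≫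
          RDer.cyclesComparison (pushforward g) (K J f') n =
        ((pushforward f).map (ψ I J (d₁ ≫ d₂) n) ≫ (sq f g f' g' w).hom.app (Z J n)) ≫
          (pushforward g).map (cyc J f' n).inv := by
      haveI : Mono ((pushforward g).map ((K J f').iCycles n)) := (pushforward g).map_mono _
      rw [← cancel_mono ((pushforward g).map ((K J f').iCycles n))]
      simp only [Category.assoc]
      refine (congrArg (fun k ↦ (cyc I f n).inv ≫ HomologicalComplex.cyclesMap Φ₁ n ≫
        HomologicalComplex.cyclesMap Φ₂ n ≫ HomologicalComplex.cyclesMap Φ₃ n ≫ k)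
          (RDer.cyclesComparison_i (pushforward g) (K J f') n)).trans ?_
      refine Eq.trans ?_ (congrArg (fun k ↦ (pushforward f).map (ψ I J (d₁ ≫ d₂) n) ≫
        (sq f g f' g' w).hom.app (Z J n) ≫ k)
          (((pushforward g).map_comp _ _).symm.trans
            (congrArg (pushforward g).map (cyc_inv_i J f' n)))).symm
      refine Eq.trans ?_ (congrArg ((pushforward f).map (ψ I J (d₁ ≫ d₂) n) ≫ ·)
        ((sq f g f' g' w).hom.naturality (kernel.ι (J.cocomplex.d n (n + 1)))))
      refine Eq.trans ?_ ((Category.assoc _ _ _).trans rfl)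
      refine (congrArg (fun k ↦ (cyc I f n).inv ≫ HomologicalComplex.cyclesMap Φ₁ n ≫
        HomologicalComplex.cyclesMap Φ₂ n ≫ k) (HomologicalComplex.cyclesMap_i Φ₃ n)).trans ?_
      refine (congrArg (fun k ↦ (cyc I f n).inv ≫ HomologicalComplex.cyclesMap Φ₁ n ≫ k)
        ((Category.assoc _ _ _).symm.trans ((congrArg (fun k ↦ k ≫ Φ₃.f n)
          (HomologicalComplex.cyclesMap_i Φ₂ n)).trans (Category.assoc _ _ _)))).trans ?_
      refine (congrArg (fun k ↦ (cyc I f n).inv ≫ k)
        ((Category.assoc _ _ _).symm.trans ((congrArg (fun k ↦ k ≫ Φ₂.f n ≫ Φ₃.f n)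
          (HomologicalComplex.cyclesMap_i Φ₁ n)).trans (Category.assoc _ _ _)))).trans ?_
      refine (Category.assoc _ _ _).symm.trans
        ((congrArg (fun k ↦ k ≫ Φ₁.f n ≫ Φ₂.f n ≫ Φ₃.f n) (cyc_inv_i I f n)).trans ?_)
      refine ((Category.assoc _ _ _).symm.trans ((Category.assoc _ _ _).symm.trans ?_))
      refine congrArg (fun k ↦ k ≫ Φ₃.f n) ?_
      refine Eq.trans ?_ (((pushforward f).map_comp _ _).symm.trans
        ((congrArg (pushforward f).map (ψ_ι I J (d₁ ≫ d₂) n)))).symm
      exact ((Category.assoc _ _ _).trans (congrArg ((pushforward f).map _ ≫ ·)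
        ((pushforward f).map_comp _ _).symm)).trans ((pushforward f).map_comp _ _).symm
    exact homology_chase (pushforward g) Φ₁ Φ₂ (D := K J f') Φ₃ n (cyc I f n).inv
      (I.isoRightDerivedObj (pushforward f) n) _ _ (cyc J f' n).inv _ hbc hcyc

end Square

end Groth.Agent.Lib.CohDelta.BC.Lift
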