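import Groth.Agent.Lib.CohDelta.BC.PushCls
import Groth.Agent.Lib.CohDelta.BC.Lift
import Groth.Agent.Lib.CohDelta.Units
import Groth.Agent.Lib.CohDelta.QCohR

/-!
# Classes along a restricted morphism

For `g' : X' ⟶ X`, opens `U ⊆ X`, `U' ⊆ g'⁻¹U` and a map of resolutions over `g'`: the induced map
on classes on the schemes `U`, `U'`, compatible with the iterated extension classes.
-/

set_option linter.style.haveILetI false
set_option maxHeartbeats 1000000

universe u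

open CategoryTheory CategoryTheory.Limits AlgebraicGeometry AlgebraicGeometry.Scheme.Modules
open TopologicalSpace Opposite
open CategoryTheory.Abelian
open Groth.Agent.Lib.ZarCoh.Basic Groth.Agent.Lib.ZarCoh.Compare
open Groth.Agent.Lib.CohDelta.Basic Groth.Agent.Lib.CohDelta.Syzygy

namespace Groth.Agent.Lib.CohDelta.BC.Beta

variable {X X' : Scheme.{u}} (g' : X' ⟶ X) {U : X.Opens} {U' : X'.Opens} (hU : U' ≤ g' ⁻¹ᵁ U)

/-- The restricted morphism. -/
noncomputable abbrev jj : (U' : Scheme.{u}) ⟶ (U : Scheme.{u}) := g'.resLE U U' hU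

theorem image_jj_le (O : (U : Scheme.{u}).Opens) :
    U'.ι ''ᵁ (jj g' hU ⁻¹ᵁ O) ≤ g' ⁻¹ᵁ (U.ι ''ᵁ O) := by
  rintro _ ⟨z, hz, rfl⟩
  exact ⟨(jj g' hU) z, hz, congr($(Scheme.Hom.resLE_comp_ι g' hU) z)⟩

/-- `(g'_*A)|_U ⟶ j_*(A|_{U'})`. -/
noncomputable def β (A : CohTop.Ab X'.toPresheafedSpace.carrier) :
    (QCohR.rV X U).obj ((CohTop.push g'.base).obj A) ⟶
      (CohTop.push (jj g' hU).base).obj ((QCohR.rV X' U').obj A) :=
  ⟨{ app := fun O ↦ A.obj.map (homOfLE (image_jj_le g' hU O.unop)).op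
     naturality := fun O O' i ↦ by
      exact (A.obj.map_comp _ _).symm.trans
        ((congrArg A.obj.map (Subsingleton.elim _ _)).trans (A.obj.map_comp _ _)) }⟩

theorem β_natural {A A' : CohTop.Ab X'.toPresheafedSpace.carrier} (α : A ⟶ A') :
    (QCohR.rV X U).map ((CohTop.push g'.base).map α) ≫ β g' hU A' =
      β g' hU A ≫ (CohTop.push (jj g' hU).base).map ((QCohR.rV X' U').map α) := by
  ext O : 3
  exact (α.hom.naturality (homOfLE (image_jj_le g' hU O.unop)).op).symm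

section Iter

variable {M : X.Modules} {G : X'.Modules} (I : InjectiveResolution M) (J : InjectiveResolution G)
  (φ : I.cocomplex ⟶ ((pushforward g').mapHomologicalComplex (ComplexShape.up ℕ)).obj J.cocomplex)

/-- The map of syzygies over `jj`. -/
noncomputable def τ (n : ℕ) :
    (QCohR.rV X U).obj (Coh.toAb (Z I n)) ⟶
      (CohTop.push (jj g' hU).base).obj ((QCohR.rV X' U').obj (Coh.toAb (Z J n))) :=
  (QCohR.rV X U).map (abMap (Lift.ψ I J φ n)) ≫ β g' hU (Coh.toAb (Z J n))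

theorem comm_aux {A₁ A₂ : X.Modules} {B₁ B₂ : X'.Modules} (a : A₁ ⟶ (pushforward g').obj B₁)
    (a' : A₂ ⟶ (pushforward g').obj B₂) (u : A₁ ⟶ A₂) (v : B₁ ⟶ B₂)
    (h : a ≫ (pushforward g').map v = u ≫ a') :
    ((QCohR.rV X U).map (abMap a) ≫ β g' hU (Coh.toAb B₁)) ≫
        (CohTop.push (jj g' hU).base).map ((QCohR.rV X' U').map (abMap v)) =
      (QCohR.rV X U).map (abMap u) ≫ (QCohR.rV X U).map (abMap a') ≫ β g' hU (Coh.toAb B₂) := by
  refine (Category.assoc _ _ _).trans ((congrArg ((QCohR.rV X U).map (abMap a) ≫ ·)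
    (β_natural g' hU (abMap v)).symm).trans ?_)
  refine ((Category.assoc _ _ _).symm.trans (congrArg (fun k ↦ k ≫ β g' hU (Coh.toAb B₂))
    ((QCohR.rV X U).map_comp _ _).symm)).trans (Eq.trans ?_ (((Category.assoc _ _ _).symm.trans
      (congrArg (fun k ↦ k ≫ β g' hU (Coh.toAb B₂)) ((QCohR.rV X U).map_comp _ _).symm))).symm)
  refine congrArg (fun k ↦ (QCohR.rV X U).map k ≫ β g' hU (Coh.toAb B₂)) ?_
  exact ((abF X).map_comp a ((pushforward g').map v)).symm.trans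
    ((congrArg (abF X).map h).trans ((abF X).map_comp u a'))

variable (W : (U : Scheme.{u}).Opens)

/-- The induced map on classes. -/
noncomputable def Ψ (n q : ℕ) :
    Ext.{u} (Zs.obj W) ((QCohR.rV X U).obj (Coh.toAb (Z I n))) q →+
      Ext.{u} (Zs.obj (jj g' hU ⁻¹ᵁ W)) ((QCohR.rV X' U').obj (Coh.toAb (Z J n))) q :=
  PushCls.along (jj g' hU).base W (τ g' hU I J φ n) q

theorem Ψ_cls (n q : ℕ) (z : Ext.{u} (Zs.obj W) ((QCohR.rV X U).obj (Coh.toAb (Z I (n + 1)))) q) :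
    Ψ g' hU I J φ W n (q + 1) (z.comp ((cls I n).mapExactFunctor (QCohR.rV X U)) rfl) =
      (Ψ g' hU I J φ W (n + 1) q z).comp ((cls J n).mapExactFunctor (QCohR.rV X' U')) rfl := by
  have hS : ((seq I n).map (abF X)).ShortExact := abS_shortExact (seq_shortExact I n)
  have hT : ((seq J n).map (abF X')).ShortExact := abS_shortExact (seq_shortExact J n)
  rw [show (cls I n).mapExactFunctor (QCohR.rV X U) = (hS.map_of_exact (QCohR.rV X U)).extClass from
    Ext.mapExactFunctor_extClass _ hS,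
    show (cls J n).mapExactFunctor (QCohR.rV X' U') = (hT.map_of_exact (QCohR.rV X' U')).extClass from
    Ext.mapExactFunctor_extClass _ hT]
  exact PushCls.along_δ (jj g' hU).base W (hS.map_of_exact (QCohR.rV X U))
    (hT.map_of_exact (QCohR.rV X' U')) (τ g' hU I J φ n)
    ((QCohR.rV X U).map (abMap (φ.f n)) ≫ β g' hU (Coh.toAb (J.cocomplex.X n)))
    (τ g' hU I J φ (n + 1)) (comm_aux g' hU _ _ _ _ (Lift.ψ_ι I J φ n))
    (comm_aux g' hU _ _ _ _ (Lift.t_ψ I J φ n).symm) q z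

theorem Ψ_iter : ∀ (k q r : ℕ) (h : q + k = r)
    (z : Ext.{u} (Zs.obj W) ((QCohR.rV X U).obj (Coh.toAb (Z I k))) q),
    Ψ g' hU I J φ W 0 r (z.comp ((iter I k).mapExactFunctor (QCohR.rV X U)) h) =
      (Ψ g' hU I J φ W k q z).comp ((iter J k).mapExactFunctor (QCohR.rV X' U')) h
  | 0, q, r, h, z => by
    obtain rfl : q = r := h
    rw [show iter I 0 = Ext.mk₀ (𝟙 _) from rfl, show iter J 0 = Ext.mk₀ (𝟙 _) from rfl,
      Ext.mapExactFunctor_mk₀, Ext.mapExactFunctor_mk₀, CategoryTheory.Functor.map_id,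
      CategoryTheory.Functor.map_id, Ext.comp_mk₀_id, Ext.comp_mk₀_id]
  | k + 1, q, r, h, z => by
    rw [iter_succ, iter_succ, Ext.mapExactFunctor_comp, Ext.mapExactFunctor_comp,
      ← Ext.comp_assoc z _ _ rfl _ (by omega : q + 1 + k = r),
      Ψ_iter k (q + 1) r (by omega), Ψ_cls, Ext.comp_assoc _ _ _ rfl _ (by omega : q + 1 + k = r)]

theorem Ψ_mk₀ (n : ℕ) (g : Zs.obj W ⟶ (QCohR.rV X U).obj (Coh.toAb (Z I n))) :
    Ψ g' hU I J φ W n 0 (Ext.mk₀ g) =
      Ext.mk₀ ((homEquiv (jj g' hU ⁻¹ᵁ W) ((QCohR.rV X' U').obj (Coh.toAb (Z J n)))).symm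
        ((Z J n).presheaf.map (homOfLE (image_jj_le g' hU W)).op
          ((Lift.ψ I J φ n).app (U.ι ''ᵁ W) (homEquiv W _ g)))) :=
  PushCls.along_mk₀ (jj g' hU).base W (τ g' hU I J φ n) g

end Iter

end Groth.Agent.Lib.CohDelta.BC.Beta
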