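import Groth.Agent.Lib.CohDelta.BC.Lift
import Groth.Agent.Lib.CohDelta.QCohR

/-!
# `Hⁿ(f⁻¹W, M) → Γ(W, Rⁿf_*M)` in every degree
-/

set_option linter.style.haveILetI false
set_option maxHeartbeats 1000000

universe u

open CategoryTheory CategoryTheory.Limits AlgebraicGeometry AlgebraicGeometry.Scheme.Modules
open TopologicalSpace Opposite
open CategoryTheory.Abelian
open Groth.Agent.Lib.ZarCoh.Basic Groth.Agent.Lib.CohDelta.Basic Groth.Agent.Lib.CohDelta.Syzygy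

namespace Groth.Agent.Lib.CohDelta.BC.Comp

variable {X S : Scheme.{u}} (f : X ⟶ S) [HasInjectiveResolutions X.Modules] {M : X.Modules}
  (I : InjectiveResolution M) (n : ℕ)

/-- `Rⁿf_*M`. -/
noncomputable abbrev Rn : S.Modules := ((pushforward f).rightDerived n).obj M

/-- `pR` on sections. -/
noncomputable def proj (W : S.Opens) : Γ(Z I n, f ⁻¹ᵁ W) →+ Γ(Rn f (M := M) n, W) :=
  ((Lift.pR I f n).app W).hom

theorem c_zero_injective (W : X.Opens) : Function.Injective (c I W 0) := by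
  intro a b h
  apply (homEquiv W (Coh.toAb (Z I 0))).symm.injective
  have h' : (Ext.mk₀ ((homEquiv W (Coh.toAb (Z I 0))).symm a)).comp (iter I 0) (zero_add 0) =
      (Ext.mk₀ ((homEquiv W (Coh.toAb (Z I 0))).symm b)).comp (iter I 0) (zero_add 0) := h
  rw [show iter I 0 = Ext.mk₀ (𝟙 _) from rfl, Ext.comp_mk₀_id, Ext.comp_mk₀_id] at h'
  exact (Ext.mk₀_bijective _ _).1 h'

theorem proj_ker (W : S.Opens) : (c I (f ⁻¹ᵁ W) n).ker ≤ (proj f I n W).ker := by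
  intro s hs
  cases n with
  | zero =>
    rw [show s = 0 from c_zero_injective I _ (hs.trans (map_zero _).symm)]
    exact map_zero _
  | succ p =>
    obtain ⟨i, rfl⟩ := (c_eq_zero_iff I _ p s).1 hs
    exact congr(($(Lift.t_pR I f p)).app W i)

/-- The comparison. -/
noncomputable def E (W : S.Opens) :
    Ext.{u} (Zs.obj (f ⁻¹ᵁ W)) (Coh.toAb (Z I 0)) n →+ Γ(Rn f (M := M) n, W) :=
  AddMonoidHom.liftOfSurjective (c I (f ⁻¹ᵁ W) n) (c_surjective I _ _)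
    ⟨proj f I n W, proj_ker f I n W⟩

theorem E_c (W : S.Opens) (s : Γ(Z I n, f ⁻¹ᵁ W)) :
    E f I n W (c I (f ⁻¹ᵁ W) n s) = (Lift.pR I f n).app W s :=
  AddMonoidHom.liftOfRightInverse_comp_apply (c I (f ⁻¹ᵁ W) n) _
    (Function.rightInverse_surjInv (c_surjective I (f ⁻¹ᵁ W) n))
    ⟨proj f I n W, proj_ker f I n W⟩ s

/-- Over an affine open the comparison is bijective. -/
theorem E_bijective [QuasiCompact f] [QuasiSeparated f] [(Z I 0).IsQuasicoherent] {W : S.Opens}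
    (hW : IsAffineOpen W) : Function.Bijective (E f I n W) := by
  cases n with
  | zero =>
    haveI := Lift.isIso_pR_zero I f
    have hc : Function.Bijective (c I (f ⁻¹ᵁ W) 0) := ⟨c_zero_injective I _, c_surjective I _ 0⟩
    refine (Function.Bijective.of_comp_iff _ hc).1 ?_
    rw [show E f I 0 W ∘ c I (f ⁻¹ᵁ W) 0 = fun s ↦ (Lift.pR I f 0).app W s from
      funext (E_c f I 0 W)]
    exact ConcreteCategory.bijective_of_isIso _
  | succ p =>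
    obtain ⟨e, he⟩ := Lift.exists_iso_R I f p
    have hE : ⇑(E f I (p + 1) W) = fun x ↦ e.hom.app W (QCohR.e f I p W x) := by
      funext x
      obtain ⟨s, rfl⟩ := c_surjective I (f ⁻¹ᵁ W) (p + 1) x
      rw [E_c, QCohR.e_c, ← he]
      rfl
    rw [hE]
    exact (ConcreteCategory.bijective_of_isIso (e.hom.app W)).comp (QCohR.e_bijective f I p hW)

/-! ### Linearity over the base -/

section Smul

variable (V : S.Opens)

theorem al_symm_c (u : Γ(Z I n, f ⁻¹ᵁ (V.ι ''ᵁ ⊤))) :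
    (QCohR.al f V (Coh.toAb (Z I 0)) n ⊤).symm (c I _ n u) =
      (Ext.mk₀ ((homEquiv ((f ∣_ V) ⁻¹ᵁ ⊤) ((QCohR.rV X (f ⁻¹ᵁ V)).obj (Coh.toAb (Z I n)))).symm
        ((Z I n).presheaf.map (eqToHom (image_morphismRestrict_preimage f V ⊤)).op u))).comp
          ((iter I n).mapExactFunctor (QCohR.rV X (f ⁻¹ᵁ V))) (zero_add n) := by
  rw [AddEquiv.symm_apply_eq]
  refine Eq.trans ?_ (Bridge.alpha_comp (T := QCohR.TT f V) (QCohR.emb f V)
    (image_morphismRestrict_preimage f V ⊤) _ (iter I n) (zero_add n)).symm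
  exact congrArg (fun k ↦ Ext.comp k (iter I n) (zero_add n))
    (Bridge.alpha_mk₀ (T := QCohR.TT f V) (QCohR.emb f V) (Coh.toAb (Z I n))
      (image_morphismRestrict_preimage f V ⊤) u).symm

/-- `E` over `V`, in terms of classes on the scheme `f⁻¹V`. -/
noncomputable def EV :
    Ext.{u} (Zs.obj ((f ∣_ V) ⁻¹ᵁ ⊤)) ((QCohR.rV X (f ⁻¹ᵁ V)).obj (Coh.toAb (Z I 0))) n →+
      Γ(Rn f (M := M) n, V.ι ''ᵁ ⊤) :=
  (E f I n (V.ι ''ᵁ ⊤)).comp (QCohR.al f V (Coh.toAb (Z I 0)) n ⊤).toAddMonoidHom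

theorem EV_apply
    (x : Ext.{u} (Zs.obj ((f ∣_ V) ⁻¹ᵁ ⊤)) ((QCohR.rV X (f ⁻¹ᵁ V)).obj (Coh.toAb (Z I 0))) n) :
    EV f I n V x = E f I n (V.ι ''ᵁ ⊤) (QCohR.al f V (Coh.toAb (Z I 0)) n ⊤ x) := rfl

theorem EV_mk (u : Γ(Z I n, f ⁻¹ᵁ (V.ι ''ᵁ ⊤))) :
    EV f I n V ((QCohR.al f V (Coh.toAb (Z I 0)) n ⊤).symm (c I _ n u)) =
      (Lift.pR I f n).app (V.ι ''ᵁ ⊤) u :=
  (congrArg (E f I n (V.ι ''ᵁ ⊤)) (AddEquiv.apply_symm_apply _ _)).trans (E_c f I n _ u)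

/-- Linearity of the comparison. -/
theorem EV_smul (r : Γ(S, V.ι ''ᵁ ⊤))
    (x : Ext.{u} (Zs.obj ((f ∣_ V) ⁻¹ᵁ ⊤)) ((QCohR.rV X (f ⁻¹ᵁ V)).obj (Coh.toAb (Z I 0))) n) :
    EV f I n V (Loc.mulA ((Z I 0).restrict (f ⁻¹ᵁ V).ι) (Glue.pb (f ∣_ V) r) _ n x) =
      r • EV f I n V x := by
  obtain ⟨y, rfl⟩ := (QCohR.al f V (Coh.toAb (Z I 0)) n ⊤).symm.surjective x
  obtain ⟨s, rfl⟩ := c_surjective I (f ⁻¹ᵁ (V.ι ''ᵁ ⊤)) n y
  let g := Glue.pb (f ∣_ V) r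
  let he := image_morphismRestrict_preimage f V ⊤
  let B := (iter I n).mapExactFunctor (QCohR.rV X (f ⁻¹ᵁ V))
  let a := f.app (V.ι ''ᵁ ⊤) r
  have hm : Loc.mulA ((Z I 0).restrict (f ⁻¹ᵁ V).ι) g _ n
        ((QCohR.al f V (Coh.toAb (Z I 0)) n ⊤).symm (c I _ n s)) =
      (QCohR.al f V (Coh.toAb (Z I 0)) n ⊤).symm (c I _ n (a • s)) := by
    refine (congrArg (Loc.mulA ((Z I 0).restrict (f ⁻¹ᵁ V).ι) g _ n) (al_symm_c f I n V s)).trans
      (Eq.trans ?_ (al_symm_c f I n V (a • s)).symm)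
    refine (Ext.comp_assoc _ B _ (zero_add n) (add_zero n) (by omega)).trans ?_
    refine (congrArg (fun k ↦ Ext.comp _ k (zero_add n)) (QCohR.iter_smul f I V g n)).trans ?_
    refine (Ext.mk₀_comp_mk₀_assoc _ _ _).trans (congrArg (fun k ↦ (Ext.mk₀ k).comp B (zero_add _)) ?_)
    apply (homEquiv ((f ∣_ V) ⁻¹ᵁ ⊤) ((QCohR.rV X (f ⁻¹ᵁ V)).obj (Coh.toAb (Z I n)))).injective
    refine (homEquiv_comp _ _).trans ?_
    refine (congrArg _ (Equiv.apply_symm_apply _ _)).trans (Eq.trans ?_ (Equiv.apply_symm_apply _ _).symm)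
    refine (Coh.smulAb_app _ g _ _).trans ?_
    refine Eq.trans ?_ ((Z I n).map_smul (eqToHom he) a s).symm
    refine congrArg (fun k : Γ(X, (f ⁻¹ᵁ V).ι ''ᵁ ((f ∣_ V) ⁻¹ᵁ ⊤)) ↦
      k • (show Γ(Z I n, (f ⁻¹ᵁ V).ι ''ᵁ ((f ∣_ V) ⁻¹ᵁ ⊤)) from
        (Z I n).presheaf.map (eqToHom he).op s)) ?_
    show ((f ⁻¹ᵁ V).ι.appIso ((f ∣_ V) ⁻¹ᵁ ⊤)).inv
        ((((f ⁻¹ᵁ V : X.Opens) : Scheme.{u}).presheaf.map (homOfLE le_top).op) ((f ∣_ V).app ⊤ r)) =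
      X.presheaf.map (eqToHom he).op (f.app (V.ι ''ᵁ ⊤) r)
    rw [Scheme.Opens.ι_appIso, Scheme.Opens.toScheme_presheaf_map, morphismRestrict_app']
    simp only [← ConcreteCategory.comp_apply, Category.assoc, Scheme.Hom.app_eq_appLE,
      Scheme.Hom.appLE_map, Scheme.Hom.map_appLE]
    refine ConcreteCategory.congr_hom (?_ : _ = 𝟙 _) _
    rw [Iso.refl_inv]
    exact (Category.comp_id _).trans
      ((congrArg X.presheaf.map (Subsingleton.elim _ (𝟙 _))).trans (X.presheaf.map_id _))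
  refine (congrArg (EV f I n V) hm).trans ?_
  refine (EV_mk f I n V (a • s)).trans ?_
  refine Eq.trans ?_ (congrArg (fun k : Γ(Rn f (M := M) n, V.ι ''ᵁ ⊤) ↦ r • k) (EV_mk f I n V s)).symm
  exact (Lift.pR I f n).app_smul r (show Γ((pushforward f).obj (Z I n), V.ι ''ᵁ ⊤) from s)

end Smul

end Groth.Agent.Lib.CohDelta.BC.Comp
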