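import Groth.Agent.Lib.StalkLoc.Basic
import Groth.Agent.Lib.Modules.Stalk

/-!
# An isomorphism of quasi-coherent modules, from one affine cover
-/

set_option autoImplicit false
set_option linter.style.haveILetI false

universe u

open CategoryTheory AlgebraicGeometry TopologicalSpace Opposite
open Groth.Agent.Lib.Modules.Stalk Groth.Agent.Lib.StalkLoc.Basic

namespace Groth.Agent.Lib.CohDelta.BC.CoverIso

variable {X : Scheme.{u}} {M N : X.Modules} [M.IsQuasicoherent] [N.IsQuasicoherent] (φ : M ⟶ N)

/-- A map of quasi-coherent modules, bijective on an affine open, is bijective on the stalks there. -/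
theorem bijective_stalk {U : X.Opens} (hU : IsAffineOpen U) (h : Function.Bijective (φ.app U))
    {x : X} (hx : x ∈ U) : Function.Bijective ((stalkFunctor X x).map φ) := by
  show Function.Bijective (Groth.Agent.Lib.Modules.StalkModule.stalkMapₗ φ x)
  have hg : ∀ s, Groth.Agent.Lib.Modules.StalkModule.stalkMapₗ φ x (M.presheaf.germ U x hx s) =
      N.presheaf.germ U x hx (φ.app U s) := fun s => stalkFunctor_map_germ x φ hx s
  constructor
  · rw [injective_iff_map_eq_zero]
    intro v hv
    obtain ⟨f, t, hxf, e⟩ := exists_smul_eq_germ hU hx v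
    have hu : IsUnit (X.presheaf.germ U x hx f) := (X.mem_basicOpen f x hx).mp hxf
    have h0 : N.presheaf.germ U x hx (φ.app U t) = 0 := by
      rw [← hg, ← e, map_smul, hv, smul_zero]
    obtain ⟨f', hxf', hf'⟩ := (germ_eq_zero_iff hU hx _).1 h0
    have ht : f' • t = 0 := h.1 ((φ.app_smul f' t).trans (hf'.trans (map_zero _).symm))
    have h1 : M.presheaf.germ U x hx t = 0 := (germ_eq_zero_iff hU hx t).2 ⟨f', hxf', ht⟩
    exact hu.smul_eq_zero.1 (e.trans h1)
  · intro w
    obtain ⟨f, t, hxf, e⟩ := exists_smul_eq_germ hU hx w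
    have hu : IsUnit (X.presheaf.germ U x hx f) := (X.mem_basicOpen f x hx).mp hxf
    obtain ⟨s, rfl⟩ := h.2 t
    refine ⟨(↑hu.unit⁻¹ : X.presheaf.stalk x) • M.presheaf.germ U x hx s, ?_⟩
    rw [map_smul, hg, ← e, smul_smul, hu.val_inv_mul, one_smul]

/-- A map of quasi-coherent modules, bijective on the members of an affine cover, is an isomorphism. -/
theorem isIso_of_bijective_cover
    (h : ∀ x : X, ∃ U : X.Opens, IsAffineOpen U ∧ x ∈ U ∧ Function.Bijective (φ.app U)) :
    IsIso φ := by
  rw [isIso_iff_stalk_bijective]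
  intro x
  obtain ⟨U, hU, hx, hb⟩ := h x
  exact bijective_stalk φ hU hb hx

end Groth.Agent.Lib.CohDelta.BC.CoverIso
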