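import Groth.Agent.Lib.CohDelta.BC.FlatH
import Groth.Agent.Lib.Exchange.BaseChange
import Groth.Agent.S0010

/-!
# Base change over an affine base for flat modules with flat cohomology
-/

set_option autoImplicit false
set_option linter.style.haveILetI false
set_option maxHeartbeats 1000000
set_option linter.unusedSectionVars false

universe u

open CategoryTheory CategoryTheory.Limits CategoryTheory.Abelian AlgebraicGeometry Opposite
open TopologicalSpace
open scoped TensorProduct
open Groth.Agent.Lib Groth.Agent.Lib.ZarCoh.Basic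
open Groth.Agent.Lib.Cech.Complex (inter inter_le_face Cochain dC)
open Groth.Agent.Lib.ProjCoh.CechNat (Comparison cls)

noncomputable section

namespace Groth.Agent.Lib.CohDelta.BC.FlatBridge

section Classes

variable {X : TopCat.{u}} {ι : Type u} {U : ι → Opens X} (C : ∀ q, Comparison U q)

/-- The cohomology class of a Čech cocycle. -/
def toExt (F : CohTop.Ab X) (hF : Cech.Compare.InterAcyclic U F) {q : ℕ} (c : Cochain U F.obj q)
    (hc : dC U F.obj q c = 0) : Ext.{u} (Zs.obj (⊤ : Opens X)) F q :=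
  ZarCoh.Compare.hTop F q (((C q).e F hF).hom (cls F.obj c hc))

variable {F G : CohTop.Ab X} (hF : Cech.Compare.InterAcyclic U F)
  (hG : Cech.Compare.InterAcyclic U G)

theorem toExt_congr {q : ℕ} {c c' : Cochain U F.obj q} (h : c = c') (hc : dC U F.obj q c = 0)
    (hc' : dC U F.obj q c' = 0) : toExt C F hF c hc = toExt C F hF c' hc' := by
  subst h; rfl

theorem toExt_add {q : ℕ} (c c' : Cochain U F.obj q) (hc : dC U F.obj q c = 0)
    (hc' : dC U F.obj q c' = 0) (h : dC U F.obj q (c + c') = 0) :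
    toExt C F hF (c + c') h = toExt C F hF c hc + toExt C F hF c' hc' := by
  refine (congrArg (fun z => ZarCoh.Compare.hTop F q (((C q).e F hF).hom z))
    (ProjCoh.CechNat.cls_add F.obj c c' hc hc')).trans ?_
  rw [map_add]
  exact map_add (ZarCoh.Compare.hTop F q) _ _

theorem toExt_map (φ : F ⟶ G) {q : ℕ} (c : Cochain U F.obj q) (hc : dC U F.obj q c = 0)
    (hc' : dC U G.obj q (Cech.Complex.map φ.hom q c) = 0) :
    toExt C G hG (Cech.Complex.map φ.hom q c) hc' =
      (toExt C F hF c hc).comp (Ext.mk₀ φ) (add_zero q) := by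
  refine Eq.trans ?_ (ZarCoh.Compare.hTop_comp _ (Ext.mk₀ φ) (add_zero q))
  refine congrArg (ZarCoh.Compare.hTop G q) ?_
  exact (congrArg ((C q).e G hG).hom
    (ProjCoh.CechNat.cls_map F.obj φ.hom c hc).symm).trans
      (ConcreteCategory.congr_hom ((C q).nat F G φ hF hG) (cls F.obj c hc)).symm

theorem toExt_surjective {q : ℕ} (x : Ext.{u} (Zs.obj (⊤ : Opens X)) F q) :
    ∃ (c : Cochain U F.obj q) (hc : dC U F.obj q c = 0), toExt C F hF c hc = x := by
  obtain ⟨y, rfl⟩ := (ZarCoh.Compare.hTop F q).surjective x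
  obtain ⟨z, rfl⟩ := (ConcreteCategory.bijective_of_isIso ((C q).e F hF).hom).2 y
  obtain ⟨c, hc, rfl⟩ := ProjCoh.CechNat.cls_surjective F.obj z
  exact ⟨c, hc, rfl⟩

theorem cls_eq_zero_of_toExt {q : ℕ} (c : Cochain U F.obj q) (hc : dC U F.obj q c = 0)
    (h : toExt C F hF c hc = 0) : cls F.obj c hc = 0 :=
  (ConcreteCategory.bijective_of_isIso ((C q).e F hF).hom).1
    (((ZarCoh.Compare.hTop F q).injective (h.trans (map_zero _).symm)).trans (map_zero _).symm)

theorem toExt_dC {q : ℕ} (b : Cochain U F.obj q) :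
    toExt C F hF (dC U F.obj q b) (Cech.Complex.dC_dC U F.obj q b) = 0 := by
  refine (congrArg (fun z => ZarCoh.Compare.hTop F (q + 1) (((C (q + 1)).e F hF).hom z))
    (ProjCoh.CechNat.cls_eq_zero_of F.obj b)).trans ?_
  rw [map_zero]
  exact map_zero (ZarCoh.Compare.hTop F (q + 1))

theorem exists_of_toExt_eq_zero {q : ℕ} (c : Cochain U F.obj (q + 1))
    (hc : dC U F.obj (q + 1) c = 0) (h : toExt C F hF c hc = 0) : ∃ b, dC U F.obj q b = c :=
  ProjCoh.CechNat.exists_of_cls_eq_zero F.obj c hc (cls_eq_zero_of_toExt C hF c hc h)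

end Classes

section Scheme

variable {A B : Type u} [CommRing A] [CommRing B] [Algebra A B]
variable {X X' : Scheme.{u}} [X.Over (Spec (CommRingCat.of A))] [X'.Over (Spec (CommRingCat.of B))]
  {g' : X' ⟶ X}
  (hsq : IsPullback g' (X' ↘ Spec (CommRingCat.of B)) (X ↘ Spec (CommRingCat.of A))
    (Spec.map (CommRingCat.ofHom (algebraMap A B))))
  (M : X.Modules) [M.IsQuasicoherent] {ι : Type u} (U : ι → X.Opens)

local notation "pX" => (X ↘ Spec (CommRingCat.of A))
local notation "pX'" => (X' ↘ Spec (CommRingCat.of B))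

open _root_.ZarCoh.FlatBC (Main.ρ Main.σ Main.σ_smul)
open _root_.ZarCoh.Exchange.Complex (CM dA dA_eq dA_dA phi phi_d bijective_phi)

/-- The direct image of the pullback, as an abelian sheaf. -/
abbrev GB : CohTop.Ab X.toPresheafedSpace.carrier :=
  Coh.toAb ((Coh.push g').obj ((Scheme.Modules.pullback g').obj M))

theorem map_ρ (q : ℕ) (a : A) (c : CM A U M q) :
    Cech.Complex.map (U := U) (Main.ρ pX M a).hom q (c : Cochain U (Coh.toAb M).obj q) =
      (a • c : CM A U M q) := by
  funext i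
  exact Coh.smulAb_app M (Coh.toGlobal pX a) _ _

/-- A scalar times the pullback of a cochain. -/
def φb (b : B) (q : ℕ) : CM A U M q →+ Cochain U (GB (g' := g') M).obj q :=
  Cech.Complex.map (U := U) (P := (Coh.toAb M).obj) (Main.σ pX' g' M b).hom q

theorem φb_apply (b : B) (q : ℕ) (c : CM A U M q) (i : Fin (q + 1) → ι) :
    φb (g' := g') M U b q c i = (Main.σ pX' g' M b).hom.app (op (inter U i)) (c i) := rfl

theorem φb_zero (q : ℕ) : φb (A := A) (B := B) (g' := g') M U 0 q = 0 := by
  refine AddMonoidHom.ext fun c => funext fun i => ?_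
  exact congrArg (fun k : Coh.toAb M ⟶ GB (g' := g') M => k.hom.app (op (inter U i)) (c i))
    (map_zero (Main.σ pX' g' M))

theorem φb_add (b b' : B) (q : ℕ) :
    φb (A := A) (g' := g') M U (b + b') q = φb M U b q + φb M U b' q := by
  refine AddMonoidHom.ext fun c => funext fun i => ?_
  exact congrArg (fun k : Coh.toAb M ⟶ GB (g' := g') M => k.hom.app (op (inter U i)) (c i))
    (map_add (Main.σ pX' g' M) b b')

include hsq in
theorem φb_smul (a : A) (b : B) (q : ℕ) (c : CM A U M q) :
    φb (g' := g') M U (a • b) q c = φb M U b q (a • c) := by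
  funext i
  refine (congrArg (fun k : Coh.toAb M ⟶ GB (g' := g') M => k.hom.app (op (inter U i)) (c i))
    (Main.σ_smul hsq M a b)).trans ?_
  exact congrArg ((Main.σ pX' g' M b).hom.app (op (inter U i))) (congrFun (map_ρ M U q a c) i)

/-- Scalars times pullbacks of cochains. -/
def φ (q : ℕ) : B ⊗[A] CM A U M q →+ Cochain U (GB (g' := g') M).obj q :=
  TensorProduct.liftAddHom
    { toFun := fun b => φb M U b q
      map_zero' := φb_zero M U q
      map_add' := fun b b' => φb_add M U b b' q }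
    fun a b c => φb_smul hsq M U a b q c

theorem φ_tmul (q : ℕ) (b : B) (c : CM A U M q) :
    φ hsq M U q (b ⊗ₜ c) = φb M U b q c := rfl

theorem φ_d (q : ℕ) (z : B ⊗[A] CM A U M q) :
    φ hsq M U (q + 1) ((dA A U M q).lTensor B z) =
      dC U (GB (g' := g') M).obj q (φ hsq M U q z) := by
  induction z using TensorProduct.induction_on with
  | zero => rw [map_zero, map_zero, map_zero, map_zero]
  | tmul b c =>
    rw [LinearMap.lTensor_tmul, φ_tmul, φ_tmul, dA_eq]
    exact Cech.Complex.map_dC (Main.σ pX' g' M b).hom q c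
  | add z z' hz hz' => simp only [map_add, hz, hz']

variable [Finite ι] (hU : ∀ {q : ℕ} (i : Fin (q + 1) → ι), IsAffineOpen (inter U i))

include hsq hU in
theorem bijective_φ (q : ℕ) : Function.Bijective (φ hsq M U q) := by
  classical
  haveI := Fintype.ofFinite ι
  let P := (Scheme.Modules.pullback g').obj M
  let e := TensorProduct.piRight A A B
    (fun i : Fin (q + 1) → ι => ((CechRes.Sec.secA pX (inter U i)).obj M : Type u))
  let S : (Fin (q + 1) → ι) → ModuleCat.{u} B :=
    fun i => (CechRes.Sec.secA pX' (g' ⁻¹ᵁ inter U i)).obj P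
  let L : ∀ i, B ⊗[A] ((CechRes.Sec.secA pX (inter U i)).obj M) → S i := fun i =>
    letI : Module A (S i) := Module.compHom _ (algebraMap A B)
    haveI : IsScalarTower A B (S i) := IsScalarTower.of_algebraMap_smul fun _ _ => rfl
    LinearMap.liftBaseChange B (R := A) (M := (CechRes.Sec.secA pX (inter U i)).obj M) (N := S i)
      { toFun := fun n => CechRes.Sec.toSec pX'
          (_root_.ZarCoh.FlatBC.PullbackSections.pbRes g' M le_rfl (CechRes.Sec.ofSec pX n))
        map_add' := fun _ _ => map_add _ _ _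
        map_smul' := fun a n =>
          _root_.ZarCoh.Exchange.BaseChange.pbRes_rho hsq M le_rfl a n }
  have hL : ∀ i, Function.Bijective (L i) := fun i =>
    _root_.ZarCoh.Exchange.BaseChange.bijective_sections hsq M (hU i) rfl
  have he : ∀ z i, φ hsq M U q z i = L i (e z i) := fun z i => by
    induction z using TensorProduct.induction_on with
    | zero => simp only [map_zero, Pi.zero_apply, L]; rfl
    | tmul b c =>
      refine ((congrFun (φ_tmul hsq M U q b c) i).trans (φb_apply M U b q c i)).trans ?_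
      simp only [L, e, LinearMap.liftBaseChange_tmul, TensorProduct.piRight_apply,
        TensorProduct.piRightHom_tmul]
      refine congrArg (_root_.ZarCoh.FlatBC.Main.baseMap pX' (g' ⁻¹ᵁ inter U i) b •
        (show Γ(P, g' ⁻¹ᵁ inter U i) from ·)) ?_
      exact (congr($(P.presheaf.map_id (op (g' ⁻¹ᵁ inter U i))) _)).symm
    | add z z' hz hz' => simp only [map_add, Pi.add_apply, hz, hz', L]; rfl
  have he' : ⇑(φ hsq M U q) = fun z i => L i (e z i) := funext fun z => funext fun i => he z i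
  exact he' ▸ (Function.Bijective.piMap hL).comp e.bijective

variable (hcov : iSup U = ⊤)

include hU in
theorem interAcyclic (F : X.Modules) [F.IsQuasicoherent] :
    Cech.Compare.InterAcyclic U (Coh.toAb F) := fun _ i n =>
  Groth.Agent.Lib.ZarCoh.Affine.HU_subsingleton F (hU i) n

include hU hcov in
theorem exact_high [X.IsSeparated] {t : ℕ} (ht : Nat.card ι ≤ t) (q : ℕ) (hq : t ≤ q)
    (N : Type u) [AddCommGroup N] [Module A N] :
    Function.Exact ((dA A U M q).rTensor N) ((dA A U M (q + 1)).rTensor N) := by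
  let Nc := ModuleCat.of A N
  let F := (CohIII.tensorAFunctor A M).obj Nc
  haveI : ((tilde.functor (CommRingCat.of A)).obj Nc).IsQuasicoherent := by
    dsimp [tilde.functor]; infer_instance
  haveI := QCoh.Pullback.isQCoh_pullback pX ((tilde.functor (CommRingCat.of A)).obj Nc)
  haveI : F.IsQuasicoherent := TensorMod.TensorQCoh.isQCoh_tensorMod
    ((Scheme.Modules.pullback pX).obj ((tilde.functor (CommRingCat.of A)).obj Nc)) M
  haveI : Coh.IsQCoh F := ‹F.IsQuasicoherent›
  obtain ⟨C⟩ := ProjCoh.CechNat.nonempty_comparison U hcov (q + 1)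
  haveI : Subsingleton (Coh.HH X F (q + 1)) := by
    refine Groth.Agent.S0010.result X (Nat.card ι) (fun j => U ((Finite.equivFin ι).symm j))
      (fun j => ?_) ?_ (fun V W hV hW => hV.inf hW) F (q + 1) (by omega)
    · have h := hU (q := 0) (fun _ => (Finite.equivFin ι).symm j)
      rwa [show inter U (fun _ : Fin 1 => (Finite.equivFin ι).symm j) =
        U ((Finite.equivFin ι).symm j) from le_antisymm (iInf_le _ 0) (le_iInf fun _ => le_rfl)] at h
    · rw [← hcov]
      exact (Finite.equivFin ι).symm.surjective.iSup_comp U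
  haveI : Subsingleton (ProjCoh.CechNat.HG (Coh.toAb F) (q + 1)) := ‹Subsingleton (Coh.HH X F (q + 1))›
  haveI : Subsingleton (CohTop.cechH (Coh.toAb F).obj U (q + 1)) :=
    Function.Injective.subsingleton
      (f := (C.e (Coh.toAb F) (interAcyclic U hU F)).hom)
      (ConcreteCategory.bijective_of_isIso _).1
  intro z
  constructor
  · intro hz
    have hc : dC U (Coh.toAb F).obj (q + 1) (phi A U M Nc (q + 1) z) = 0 :=
      (phi_d A U M Nc (q + 1) z).symm.trans ((congrArg _ hz).trans (map_zero _))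
    obtain ⟨b, hb⟩ := ProjCoh.CechNat.exists_of_cls_eq_zero _ _ hc (Subsingleton.elim _ _)
    obtain ⟨y, rfl⟩ := (bijective_phi A U M Nc hU q).2 b
    exact ⟨y, (bijective_phi A U M Nc hU (q + 1)).1 ((phi_d A U M Nc q y).trans hb)⟩
  · rintro ⟨y, rfl⟩
    rw [← LinearMap.rTensor_comp_apply, dA_dA, LinearMap.rTensor_zero]
    rfl

/-- Cocycles to classes, linearly over the base. -/
def π (C : ∀ q, Comparison U q) (hA : Cech.Compare.InterAcyclic U (Coh.toAb M)) (q : ℕ) :
    letI := _root_.ZarCoh.FlatBC.actModule (Main.ρ pX M) (Zs.obj (⊤ : X.Opens)) q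
    LinearMap.ker (dA A U M q) →ₗ[A] Ext.{u} (Zs.obj (⊤ : X.Opens)) (Coh.toAb M) q :=
  letI := _root_.ZarCoh.FlatBC.actModule (Main.ρ pX M) (Zs.obj (⊤ : X.Opens)) q
  { toFun := fun c => toExt C _ hA c.1 ((dA_eq A U M q c.1).symm.trans c.2)
    map_add' := fun c c' => toExt_add C hA c.1 c'.1 _ _ _
    map_smul' := fun a c => by
      have hc : dC U (Coh.toAb M).obj q c.1 = 0 := (dA_eq A U M q c.1).symm.trans c.2
      refine Eq.trans ?_ (toExt_map C hA hA (Main.ρ pX M a) c.1 hc
        ((Cech.Complex.map_dC _ q _).symm.trans ((congrArg _ hc).trans (map_zero _))))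
      exact toExt_congr C hA (map_ρ M U q a c.1).symm _ _ }

theorem π_apply (C : ∀ q, Comparison U q) (hA : Cech.Compare.InterAcyclic U (Coh.toAb M)) (q : ℕ)
    (c : LinearMap.ker (dA A U M q)) :
    π (A := A) M U C hA q c = toExt C _ hA c.1 ((dA_eq A U M q c.1).symm.trans c.2) := rfl

/-- Tensored cocycles to classes downstairs. -/
def π' (C : ∀ q, Comparison U q) (hB : Cech.Compare.InterAcyclic U (GB (g' := g') M)) (q : ℕ) :
    LinearMap.ker ((dA A U M q).lTensor B) →+ Ext.{u} (Zs.obj (⊤ : X.Opens)) (GB (g' := g') M) q :=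
  AddMonoidHom.mk' (fun z => toExt C _ hB (φ hsq M U q z.1)
      ((φ_d hsq M U q z.1).symm.trans ((congrArg _ z.2).trans (map_zero _))))
    fun z z' => by
      have hz := (φ_d hsq M U q z.1).symm.trans ((congrArg _ z.2).trans (map_zero _))
      have hz' := (φ_d hsq M U q z'.1).symm.trans ((congrArg _ z'.2).trans (map_zero _))
      exact (toExt_congr C hB (map_add (φ hsq M U q) z.1 z'.1) _
        (by rw [map_add, hz, hz', add_zero])).trans (toExt_add C hB _ _ hz hz' _)

theorem π_surjective (C : ∀ q, Comparison U q) (hA : Cech.Compare.InterAcyclic U (Coh.toAb M))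
    (q : ℕ) : Function.Surjective (π (A := A) M U C hA q) := fun x => by
  obtain ⟨c, hc, rfl⟩ := toExt_surjective C hA x
  exact ⟨⟨(c : CM A U M q), (dA_eq A U M q c).trans hc⟩, rfl⟩

theorem π_dA (C : ∀ q, Comparison U q) (hA : Cech.Compare.InterAcyclic U (Coh.toAb M))
    (q : ℕ) (x : CM A U M q) (hx : dA A U M (q + 1) (dA A U M q x) = 0) :
    π (A := A) M U C hA (q + 1) ⟨dA A U M q x, hx⟩ = 0 := by
  rw [π_apply]
  have h := toExt_dC C hA (q := q) (x : Cochain U (Coh.toAb M).obj q)
  refine Eq.trans ?_ h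
  exact toExt_congr C hA (dA_eq A U M q x) _ _

theorem π_ker (C : ∀ q, Comparison U q) (hA : Cech.Compare.InterAcyclic U (Coh.toAb M))
    (q : ℕ) (c : LinearMap.ker (dA A U M (q + 1))) (hc : π (A := A) M U C hA (q + 1) c = 0) :
    ∃ b, dA A U M q b = c.1 := by
  obtain ⟨b, hb⟩ := exists_of_toExt_eq_zero C hA c.1
    ((dA_eq A U M (q + 1) c.1).symm.trans c.2) hc
  exact ⟨b, (dA_eq A U M q b).trans hb⟩

include hU hcov in
theorem flat_coker [X.IsSeparated] (C : ∀ q, Comparison U q)
    (hA : Cech.Compare.InterAcyclic U (Coh.toAb M))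
    [∀ q, Module.Flat A (CM A U M q)]
    (hH : ∀ n : ℕ,
      letI := _root_.ZarCoh.FlatBC.actModule (Main.ρ pX M) (Zs.obj (⊤ : X.Opens)) n
      Module.Flat A (Ext.{u} (Zs.obj (⊤ : X.Opens)) (Coh.toAb M) n)) (q : ℕ) :
    Module.Flat A (CM A U M (q + 1) ⧸ LinearMap.range (dA A U M q)) := by
  refine FlatH.flat_coker (W := fun q => CM A U M q) (dA A U M) (dA_dA A U M) (Nat.card ι)
    (fun q => ?_) (fun q hq N _ _ => exact_high M U hU hcov le_rfl q hq N) q
  letI := _root_.ZarCoh.FlatBC.actModule (Main.ρ pX M) (Zs.obj (⊤ : X.Opens)) (q + 1)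
  haveI := hH (q + 1)
  refine Module.Flat.of_linearEquiv ((Submodule.quotEquivOfEq _ _ ?_).trans
    ((π (A := A) M U C hA (q + 1)).quotKerEquivOfSurjective (π_surjective (A := A) M U C hA (q + 1))))
  ext c
  constructor
  · rintro ⟨y, rfl⟩
    exact π_dA (A := A) M U C hA q y _
  · intro hc
    obtain ⟨b, hb⟩ := π_ker (A := A) M U C hA q c hc
    exact ⟨b, Subtype.ext hb⟩

include hU in
theorem π'_surjective (C : ∀ q, Comparison U q) (hB : Cech.Compare.InterAcyclic U (GB (g' := g') M))
    (q : ℕ) : Function.Surjective (π' hsq M U C hB q) := fun x => by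
  obtain ⟨c, hc, rfl⟩ := toExt_surjective C hB x
  obtain ⟨z, rfl⟩ := (bijective_φ hsq M U hU q).2 c
  have hz : (dA A U M q).lTensor B z = 0 := (bijective_φ hsq M U hU (q + 1)).1
    (((φ_d hsq M U q z).trans hc).trans (map_zero _).symm)
  exact ⟨⟨z, hz⟩, rfl⟩

include hU in
theorem π'_ker_succ (C : ∀ q, Comparison U q) (hB : Cech.Compare.InterAcyclic U (GB (g' := g') M))
    (q : ℕ) (z : LinearMap.ker ((dA A U M (q + 1)).lTensor B))
    (hz : π' hsq M U C hB (q + 1) z = 0) : ∃ y, (dA A U M q).lTensor B y = z.1 := by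
  obtain ⟨b, hb⟩ := exists_of_toExt_eq_zero C hB _ _ hz
  obtain ⟨y, rfl⟩ := (bijective_φ hsq M U hU q).2 b
  exact ⟨y, (bijective_φ hsq M U hU (q + 1)).1 ((φ_d hsq M U q y).trans hb)⟩

include hU in
theorem π'_ker_zero (C : ∀ q, Comparison U q) (hB : Cech.Compare.InterAcyclic U (GB (g' := g') M))
    (z : LinearMap.ker ((dA A U M 0).lTensor B)) (hz : π' hsq M U C hB 0 z = 0) : z.1 = 0 :=
  (bijective_φ hsq M U hU 0).1 ((_root_.ZarCoh.Exchange.Compare.cls_zero_eq_zero U _ _
    (cls_eq_zero_of_toExt C hB _ _ hz)).trans (map_zero _).symm)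

theorem Φ_π (C : ∀ q, Comparison U q) (hA : Cech.Compare.InterAcyclic U (Coh.toAb M))
    (hB : Cech.Compare.InterAcyclic U (GB (g' := g') M)) (n : ℕ) (b : B)
    (c : LinearMap.ker (dA A U M n)) (hc : (dA A U M n).lTensor B (b ⊗ₜ c.1) = 0) :
    letI := _root_.ZarCoh.FlatBC.actModule (Main.ρ pX M) (Zs.obj (⊤ : X.Opens)) n
    _root_.ZarCoh.FlatBC.Φ (Main.ρ pX M) B (Main.σ pX' g' M) (Main.σ_smul hsq M)
      (Zs.obj (⊤ : X.Opens)) n (b ⊗ₜ π (A := A) M U C hA n c) = π' hsq M U C hB n ⟨b ⊗ₜ c.1, hc⟩ :=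
  (_root_.ZarCoh.FlatBC.Φ_tmul _ _ _ _ _ _ _ _).trans
    (toExt_map C hA hB (Main.σ pX' g' M b) (c.1 : Cochain U (Coh.toAb M).obj n)
      ((dA_eq A U M n c.1).symm.trans c.2)
      (((Cech.Complex.map_dC _ n _).symm.trans (congrArg _ ((dA_eq A U M n c.1).symm.trans c.2))).trans
        (map_zero _))).symm

include hU hcov in
/-- The comparison is bijective if the Čech terms and the cohomology are flat. -/
theorem bij_top [X.IsSeparated]
    (hflat : ∀ W : X.Opens, IsAffineOpen W → Module.Flat A ((CechRes.Sec.secA pX W).obj M))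
    (hH : ∀ n : ℕ,
      letI := _root_.ZarCoh.FlatBC.actModule (Main.ρ pX M) (Zs.obj (⊤ : X.Opens)) n
      Module.Flat A (Ext.{u} (Zs.obj (⊤ : X.Opens)) (Coh.toAb M) n)) :
    _root_.ZarCoh.FlatBC.Bij (Main.ρ pX M) B (Main.σ pX' g' M) (Main.σ_smul hsq M)
      (Zs.obj (⊤ : X.Opens)) := by
  classical
  haveI := Fintype.ofFinite ι
  haveI := _root_.ZarCoh.FlatBC.Main.isAffineHom_fst hsq
  haveI := QCoh.Pullback.isQCoh_pullback g' M
  haveI : ((Coh.push g').obj ((Scheme.Modules.pullback g').obj M)).IsQuasicoherent :=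
    QCoh.Pushforward.isQCoh_pushforward g' (M := (Scheme.Modules.pullback g').obj M)
  have hA : Cech.Compare.InterAcyclic U (Coh.toAb M) := interAcyclic U hU M
  have hB : Cech.Compare.InterAcyclic U (GB (g' := g') M) :=
    interAcyclic U hU ((Coh.push g').obj ((Scheme.Modules.pullback g').obj M))
  let C : ∀ q, Comparison U q := fun q =>
    (ProjCoh.CechNat.nonempty_comparison U hcov q).some
  haveI : ∀ q, Module.Flat A (CM A U M q) := fun q => by
    haveI : ∀ i : Fin (q + 1) → ι,
        Module.Flat A ((CechRes.Sec.secA pX (inter U i)).obj M : Type u) :=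
      fun i => hflat _ (hU i)
    exact Module.Flat.of_linearEquiv (DirectSum.linearEquivFunOnFintype A (Fin (q + 1) → ι)
      (fun i => ((CechRes.Sec.secA pX (inter U i)).obj M : Type u))).symm
  intro n
  letI := _root_.ZarCoh.FlatBC.actModule (Main.ρ pX M) (Zs.obj (⊤ : X.Opens)) n
  haveI := flat_coker M U hU hcov C hA hH n
  cases n with
  | zero =>
    refine FlatH.bijective (X := PUnit.{u + 1}) 0 (dA A U M 0) (LinearMap.comp_zero _)
      (π (A := A) M U C hA 0) (π_surjective (A := A) M U C hA 0) (fun x => ?_) (π' hsq M U C hB 0)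
      (π'_surjective hsq M U hU C hB 0)
      (fun z hz => ⟨0, (map_zero _).trans (π'_ker_zero hsq M U hU C hB z hz).symm⟩) _
      (Φ_π hsq M U C hA hB 0)
    exact map_zero (π (A := A) M U C hA 0)
  | succ q =>
    exact FlatH.bijective (dA A U M q) (dA A U M (q + 1)) (dA_dA A U M q)
      (π (A := A) M U C hA (q + 1)) (π_surjective (A := A) M U C hA (q + 1)) (fun x => π_dA (A := A) M U C hA q x _)
      (π' hsq M U C hB (q + 1)) (π'_surjective hsq M U hU C hB (q + 1))
      (π'_ker_succ hsq M U hU C hB q) _ (Φ_π hsq M U C hA hB (q + 1))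

end Scheme

end Groth.Agent.Lib.CohDelta.BC.FlatBridge
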