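import Groth.Agent.Lib.CohDelta.BC.Affine
import Groth.Agent.H47.FlatKernelScheme
import Groth.Agent.Lib.CechRes.Sec

/-!
# Affine charts of a base change over a base scheme
-/

set_option autoImplicit false
set_option linter.style.haveILetI false
set_option maxHeartbeats 1000000

universe u

open CategoryTheory CategoryTheory.Limits AlgebraicGeometry AlgebraicGeometry.Scheme.Modules
open TopologicalSpace Opposite
open Groth.Agent.Lib

namespace Groth.Agent.Lib.CohDelta.BC.FlatGeom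

variable {Y S : Scheme.{u}} (b : Y ⟶ S) {T : S.Opens} {V : Y.Opens} (eV : V ≤ b ⁻¹ᵁ T)

/-- The structure map of a chart over an affine open of the base. -/
noncomputable abbrev qMap : (V : Scheme.{u}) ⟶ Spec (CommRingCat.of Γ(S, T)) :=
  b.resLE T V eV ≫ T.toSpecΓ

/-- Functions of the base on a chart. -/
noncomputable abbrev qHom : Γ(S, T) →+* Γ(Y, V.ι ''ᵁ ⊤) :=
  (qMap b eV).appTop.hom.comp (Scheme.ΓSpecIso Γ(S, T)).inv.hom

theorem toGlobal_qMap (a : Γ(S, T)) (Wi : Y.Opens) (hWi : Wi ≤ V.ι ''ᵁ ⊤) (hWi' : Wi ≤ b ⁻¹ᵁ T) :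
    Y.presheaf.map (homOfLE hWi).op (Coh.toGlobal (A := Γ(S, T)) (qMap b eV) a) =
      b.appLE T Wi hWi' a := by
  have h : (Scheme.ΓSpecIso Γ(S, T)).inv ≫ (qMap b eV).appTop = b.appLE T V eV ≫ V.topIso.inv := by
    rw [show qMap b eV = V.toSpecΓ ≫ Spec.map (b.appLE T V eV) from
      (Scheme.Opens.toSpecΓ_SpecMap_appLE b T V eV).symm, Scheme.Hom.comp_appTop,
      ← Scheme.ΓSpecIso_inv_naturality_assoc, Scheme.Opens.toSpecΓ_appTop, Iso.inv_hom_id_assoc]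
  refine (congrArg (Y.presheaf.map (homOfLE hWi).op) congr($h a)).trans ?_
  simp only [Scheme.Opens.topIso_inv]
  erw [← CommRingCat.comp_apply]
  refine ConcreteCategory.congr_hom ?_ a
  exact ((Category.assoc _ _ _).trans
    (congrArg (b.appLE T V eV ≫ ·) (Y.presheaf.map_comp _ _).symm)).trans
    (Scheme.Hom.appLE_map b eV _)

theorem isIso_toSpecΓ (hT : IsAffineOpen T) : IsIso T.toSpecΓ := by
  rw [← hT.isoSpec_hom]
  infer_instance

section Square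

variable {Y' S' : Scheme.{u}} (g : S' ⟶ S) (gY : Y' ⟶ Y) (b' : Y' ⟶ S')
  (hY : IsPullback gY b' b g) {T' : S'.Opens} {W : Y'.Opens} (eT : T' ≤ g ⁻¹ᵁ T)
  (hW : W = gY ⁻¹ᵁ V ⊓ b' ⁻¹ᵁ T')

include hW in
theorem le_left : W ≤ gY ⁻¹ᵁ V := hW.le.trans inf_le_left

include hW in
theorem le_right : W ≤ b' ⁻¹ᵁ T' := hW.le.trans inf_le_right

include hW in
theorem le_image : W.ι ''ᵁ ⊤ ≤ gY ⁻¹ᵁ (V.ι ''ᵁ ⊤) := by
  rw [W.ι_image_top, V.ι_image_top]
  exact le_left gY b' hW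

include hY eV in
theorem isPullback_chart (hT : IsAffineOpen T) (hT' : IsAffineOpen T') :
    IsPullback (gY.resLE V W (le_left gY b' hW)) (qMap b' (le_right gY b' hW)) (qMap b eV)
      (Spec.map (g.appLE T T' eT)) := by
  haveI := isIso_toSpecΓ hT
  haveI := isIso_toSpecΓ hT'
  exact (Scheme.Hom.isPullback_resLE hY eT eV hW).paste_vert
    (IsPullback.of_vert_isIso ⟨(Scheme.Opens.toSpecΓ_SpecMap_appLE g T T' eT).symm⟩)

include hY eV in
theorem isAffineOpen_chart (hT : IsAffineOpen T) (hT' : IsAffineOpen T') (hV : IsAffineOpen V)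
    (hW : W = gY ⁻¹ᵁ V ⊓ b' ⁻¹ᵁ T') (eT : T' ≤ g ⁻¹ᵁ T) : IsAffineOpen W := by
  haveI : IsAffine (V : Scheme.{u}) := hV
  exact IsAffine.of_isIso (isPullback_chart b eV g gY b' hY eT hW hT hT').isoPullback.hom

include hY eV in
theorem isPushout_chart (hT : IsAffineOpen T) (hT' : IsAffineOpen T') (hV : IsAffineOpen V) :
    IsPushout (g.appLE T T' eT)
      (CommRingCat.ofHom (qHom b eV))
      (CommRingCat.ofHom (qHom b' (le_right gY b' hW)))
      (gY.appLE (V.ι ''ᵁ ⊤) (W.ι ''ᵁ ⊤) (le_image gY b' hW)) := by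
  haveI : IsAffine (V : Scheme.{u}) := hV
  haveI : IsAffine (W : Scheme.{u}) := isAffineOpen_chart b eV g gY b' hY hT hT' hV hW eT
  have po := isPushout_appTop_of_isPullback (isPullback_chart b eV g gY b' hY eT hW hT hT').flip
  refine po.of_iso (Scheme.ΓSpecIso Γ(S, T)) (Scheme.ΓSpecIso Γ(S', T')) (Iso.refl _) (Iso.refl _)
    ?_ ?_ ?_ ?_
  · exact Scheme.ΓSpecIso_naturality _
  · rw [← cancel_epi (Scheme.ΓSpecIso Γ(S, T)).inv, Iso.inv_hom_id_assoc]
    ext a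
    rfl
  · rw [← cancel_epi (Scheme.ΓSpecIso Γ(S', T')).inv, Iso.inv_hom_id_assoc]
    ext a
    rfl
  · rw [Affine.appTop_resLE gY (le_image gY b' hW)]
    exact (Category.comp_id _).trans (Category.id_comp _).symm

end Square

variable {X : Scheme.{u}} (f : X ⟶ Y)

/-- The structure map of the preimage of a chart. -/
noncomputable abbrev pMap : ((f ⁻¹ᵁ V : X.Opens) : Scheme.{u}) ⟶ Spec (CommRingCat.of Γ(S, T)) :=
  (f ∣_ V) ≫ qMap b eV

include eV in
theorem le_comp : f ⁻¹ᵁ V ≤ (f ≫ b) ⁻¹ᵁ T := f.preimage_mono eV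

theorem pMap_eq : pMap b eV f = qMap (f ≫ b) (le_comp b eV f) := by
  show _ ≫ _ ≫ _ = _ ≫ _
  rw [← Category.assoc, ← Scheme.Hom.resLE_eq_morphismRestrict, Scheme.Hom.resLE_comp_resLE]

theorem toGlobal_pMap (a : Γ(S, T)) :
    Coh.toGlobal (A := Γ(S, T)) (pMap b eV f) a =
      Glue.pb (f ∣_ V) (Coh.toGlobal (A := Γ(S, T)) (qMap b eV) a) := rfl

/-- Sections on affine opens of the chart are flat over the base. -/
theorem flat_secA (hT : IsAffineOpen T) (F : X.Modules) [F.IsQuasicoherent]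
    (hF : FlatMod.IsFlatOver (f ≫ b) F) (Wo : ((f ⁻¹ᵁ V : X.Opens) : Scheme.{u}).Opens)
    (hWo : IsAffineOpen Wo) :
    Module.Flat Γ(S, T) ((CechRes.Sec.secA (pMap b eV f) Wo).obj (F.restrict (f ⁻¹ᵁ V).ι)) := by
  let U := f ⁻¹ᵁ V
  have hle : U.ι ''ᵁ Wo ≤ U.ι ''ᵁ ⊤ := U.ι.image_mono le_top
  have hle' : U.ι ''ᵁ Wo ≤ (f ≫ b) ⁻¹ᵁ T :=
    (hle.trans U.ι_image_top.le).trans (le_comp b eV f)
  have hflat := Groth.Agent.H47.FlatKernelScheme.flat_sections (f ≫ b) F hT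
    (hWo.image_of_isOpenImmersion U.ι) hle' hF
  letI := Module.compHom Γ(F, U.ι ''ᵁ Wo) ((f ≫ b).appLE T (U.ι ''ᵁ Wo) hle').hom
  have hρ : ∀ a : Γ(S, T), ((f ≫ b).appLE T (U.ι ''ᵁ Wo) hle') a =
      CechRes.Sec.rho (pMap b eV f) Wo a := fun a => by
    refine (toGlobal_qMap (f ≫ b) (le_comp b eV f) a _ hle hle').symm.trans ?_
    rw [← pMap_eq]
    rfl
  refine Module.Flat.of_linearEquiv (R := Γ(S, T)) (M := Γ(F, U.ι ''ᵁ Wo))
    (N := ((CechRes.Sec.secA (pMap b eV f) Wo).obj (F.restrict U.ι) : Type u))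
    { toFun := fun m => m
      invFun := fun m => m
      map_add' := fun _ _ => rfl
      map_smul' := fun a m => ?_
      left_inv := fun _ => rfl
      right_inv := fun _ => rfl }
  refine (congrArg (fun r : Γ(X, U.ι ''ᵁ Wo) =>
    r • (show Γ(F, U.ι ''ᵁ Wo) from m)) ?_)
  show (U.ι.appIso Wo).inv (CechRes.Sec.rho (pMap b eV f) Wo a) = (f ≫ b).appLE T (U.ι ''ᵁ Wo) hle' a
  rw [Scheme.Opens.ι_appIso]
  exact (hρ a).symm

/-- Sections of a flat module over the chart are flat over the base. -/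
theorem flat_chart (hT : IsAffineOpen T) (hV : IsAffineOpen V) (R : Y.Modules) [R.IsQuasicoherent]
    (hR : FlatMod.IsFlatOver b R) :
    letI : Module Γ(S, T) Γ(R, V.ι ''ᵁ ⊤) :=
      Module.compHom _ (qHom b eV)
    Module.Flat Γ(S, T) Γ(R, V.ι ''ᵁ ⊤) := by
  have hle : V.ι ''ᵁ ⊤ ≤ b ⁻¹ᵁ T := V.ι_image_top.le.trans eV
  have h := Groth.Agent.H47.FlatKernelScheme.flat_sections b R hT
    (show IsAffineOpen (V.ι ''ᵁ ⊤) from V.ι_image_top.symm ▸ hV) hle hR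
  have hφ : qHom b eV =
      (b.appLE T (V.ι ''ᵁ ⊤) hle).hom := by
    refine RingHom.ext fun a => ?_
    refine Eq.trans ?_ (toGlobal_qMap b eV a _ le_rfl hle)
    exact (congr($(Y.presheaf.map_id (op (V.ι ''ᵁ ⊤))) _)).symm
  rw [hφ]
  exact h

end Groth.Agent.Lib.CohDelta.BC.FlatGeom
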