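import Groth.Agent.Lib.CohDelta.BC.FlatBridge
import Groth.Agent.Lib.CohDelta.BC.FlatGeom
import Groth.Agent.Lib.CohDelta.BC.EpsV
import Groth.Agent.Lib.CohDelta.BC.PullOn
import Groth.Agent.Lib.CohDelta.BC.CoverIso
import Groth.Agent.S0030

/-!
# Base change maps of higher direct images of a flat module with flat higher direct images
-/

set_option autoImplicit false
set_option linter.style.haveILetI false
set_option linter.unusedSectionVars false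
set_option maxHeartbeats 2000000
set_option maxRecDepth 4000

universe u

open CategoryTheory CategoryTheory.Limits AlgebraicGeometry AlgebraicGeometry.Scheme.Modules
open TopologicalSpace Opposite
open CategoryTheory.Abelian
open Groth.Agent.Lib Groth.Agent.Lib.ZarCoh.Basic Groth.Agent.Lib.ZarCoh.Compare
open Groth.Agent.Lib.CohDelta.Basic
open scoped TensorProduct

namespace Groth.Agent.Lib.CohDelta.BC.FlatGen

variable {X Y S X' Y' S' : Scheme.{u}} (f : X ⟶ Y) (b : Y ⟶ S) (g : S' ⟶ S) (gY : Y' ⟶ Y)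
  (b' : Y' ⟶ S') (gX : X' ⟶ X) (f' : X' ⟶ Y') (hY : IsPullback gY b' b g)
  (hX : IsPullback gX f' f gY)
  [HasInjectiveResolutions X.Modules] [HasInjectiveResolutions X'.Modules]
  {Δ : RDer.DerivedLES (pushforward f)} {Δ' : RDer.DerivedLES (pushforward f')}
  {E : CohCmp.SectCmp f Δ} {E' : CohCmp.SectCmp f' Δ'}
  (B : CohCmp.GenBC f gY f' gX hX.w E E')
  (M : X.Modules) (n : ℕ)
  {T : S.Opens} {T' : S'.Opens} {V : Y.Opens} {W : Y'.Opens}

section Key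

variable (e : W.ι ''ᵁ ⊤ ≤ gY ⁻¹ᵁ (V.ι ''ᵁ ⊤))

/-- The restricted morphism upstairs. -/
noncomputable abbrev j :
    ((f' ⁻¹ᵁ W : X'.Opens) : Scheme.{u}) ⟶ ((f ⁻¹ᵁ V : X.Opens) : Scheme.{u}) :=
  Beta.jj gX (Main.le_preimage f gY f' gX hX.w V W e)

/-- The unit upstairs, restricted. -/
noncomputable abbrev τ₀ :
    (QCohR.rV X (f ⁻¹ᵁ V)).obj (Coh.toAb M) ⟶
      (CohTop.push (j f gY gX f' hX e).base).obj
        ((QCohR.rV X' (f' ⁻¹ᵁ W)).obj (Coh.toAb ((Scheme.Modules.pullback gX).obj M))) :=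
  (QCohR.rV X (f ⁻¹ᵁ V)).map (abMap ((pullbackPushforwardAdjunction gX).unit.app M)) ≫
    Beta.β gX (Main.le_preimage f gY f' gX hX.w V W e)
      (Coh.toAb ((Scheme.Modules.pullback gX).obj M))

/-- The base change map on classes over opens. -/
theorem key₀ {V₁ : Y.Opens} {W₁ : Y'.Opens} (e₁ : W₁ ≤ gY ⁻¹ᵁ V₁)
    (hle : f' ⁻¹ᵁ W₁ ≤ gX ⁻¹ᵁ (f ⁻¹ᵁ V₁))
    (z : Ext.{u} (Zs.obj (f ⁻¹ᵁ V₁)) (Coh.toAb M) n) :
    ((Coh.Rpush f' n).obj ((Scheme.Modules.pullback gX).obj M)).presheaf.map (homOfLE e₁).op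
        ((B.φ n M).app V₁ (Sect.eps E V₁ M n z)) =
      Sect.eps E' W₁ ((Scheme.Modules.pullback gX).obj M) n
        (rs (Coh.toAb ((Scheme.Modules.pullback gX).obj M)) n hle
          (PushCls.along gX.base (f ⁻¹ᵁ V₁)
            (abMap ((pullbackPushforwardAdjunction gX).unit.app M)) n z)) := by
  let G := (Scheme.Modules.pullback gX).obj M
  have hle₁ : f' ⁻¹ᵁ (gY ⁻¹ᵁ V₁) ≤ gX ⁻¹ᵁ (f ⁻¹ᵁ V₁) := CohCmp.sqLE f gY f' gX hX.w V₁
  obtain ⟨y, rfl⟩ := (Basic.hU M (f ⁻¹ᵁ V₁) n).surjective z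
  refine (congrArg _ ((congrArg ((B.φ n M).app V₁) (Sect.eps_hU E V₁ M n y)).trans
    ((B.compat V₁ M n y).trans (Sect.eps_hU E' (gY ⁻¹ᵁ V₁) G n _).symm))).trans ?_
  refine (Sect.eps_res E' n G e₁ _).symm.trans (congrArg (Sect.eps E' W₁ G n) ?_)
  refine (congrArg (rs (Coh.toAb G) n (f'.preimage_mono e₁))
    (PullOn.hU_pullOn gX hle₁ M n y)).trans ?_
  exact Loc.rs_rs G hle₁ (f'.preimage_mono e₁) _

include hX in
theorem le_charts (e₁ : W.ι ''ᵁ ⊤ ≤ gY ⁻¹ᵁ (V.ι ''ᵁ ⊤)) :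
    f' ⁻¹ᵁ (W.ι ''ᵁ ⊤) ≤ gX ⁻¹ᵁ (f ⁻¹ᵁ (V.ι ''ᵁ ⊤)) :=
  (f'.preimage_mono e₁).trans (CohCmp.sqLE f gY f' gX hX.w _)

/-- The base change map on the classes of the charts. -/
theorem key (x : Ext.{u} (Zs.obj ((f ∣_ V) ⁻¹ᵁ ⊤)) ((QCohR.rV X (f ⁻¹ᵁ V)).obj (Coh.toAb M)) n) :
    ((Coh.Rpush f' n).obj ((Scheme.Modules.pullback gX).obj M)).presheaf.map (homOfLE e).op
        ((B.φ n M).app (V.ι ''ᵁ ⊤) (EpsV.εV E V n M x)) =
      EpsV.εV E' W n ((Scheme.Modules.pullback gX).obj M)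
        (PushCls.along (j f gY gX f' hX e).base ((f ∣_ V) ⁻¹ᵁ ⊤) (τ₀ f gY gX f' hX M e) n x) :=
  (key₀ f gY gX f' hX B M n e (le_charts f gY gX f' hX e)
    (QCohR.al f V (Coh.toAb M) n ⊤ x)).trans
    (congrArg (Sect.eps E' (W.ι ''ᵁ ⊤) ((Scheme.Modules.pullback gX).obj M) n)
      (PullOn.alpha_along_unit gX (Main.le_preimage f gY f' gX hX.w V W e) M
        (W := (f ∣_ V) ⁻¹ᵁ ⊤) (image_morphismRestrict_preimage f V ⊤)
        (image_morphismRestrict_preimage f' W ⊤) (le_charts f gY gX f' hX e) n x).symm)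

end Key

section Chart

variable (hT : IsAffineOpen T) (hT' : IsAffineOpen T') (hV : IsAffineOpen V)
  (eT : T' ≤ g ⁻¹ᵁ T) (eV : V ≤ b ⁻¹ᵁ T) (hW : W = gY ⁻¹ᵁ V ⊓ b' ⁻¹ᵁ T')

/-- A scalar times the inverse image of a section. -/
noncomputable def pbS (R : Y.Modules) (s : Γ(S', T')) :
    Γ(R, V.ι ''ᵁ ⊤) →+ Γ((Scheme.Modules.pullback gY).obj R, W.ι ''ᵁ ⊤) :=
  (DistribMulAction.toAddMonoidHom Γ((Scheme.Modules.pullback gY).obj R, W.ι ''ᵁ ⊤)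
      (FlatGeom.qHom b' (FlatGeom.le_right gY b' hW) s)).comp
    (_root_.ZarCoh.FlatBC.PullbackSections.pbRes gY R (FlatGeom.le_image gY b' hW))

theorem pbS_zero (R : Y.Modules) : pbS gY b' hW R 0 = 0 :=
  AddMonoidHom.ext fun m => (congrArg (· • _) (map_zero
    (FlatGeom.qHom b' (FlatGeom.le_right gY b' hW)))).trans (zero_smul _ _)

theorem pbS_add (R : Y.Modules) (s s' : Γ(S', T')) :
    pbS gY b' hW R (s + s') = pbS gY b' hW R s + pbS gY b' hW R s' :=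
  AddMonoidHom.ext fun m => (congrArg (· • _) (map_add
    (FlatGeom.qHom b' (FlatGeom.le_right gY b' hW)) s s')).trans (add_smul _ _ _)

include hY hT hT' hV in
theorem pbS_smul (R : Y.Modules) (a : Γ(S, T)) (s : Γ(S', T')) (m : Γ(R, V.ι ''ᵁ ⊤)) :
    pbS gY b' hW R (g.appLE T T' eT a * s) m =
      pbS gY b' hW R s (FlatGeom.qHom b eV a • m) := by
  have hc := (FlatGeom.isPushout_chart b eV g gY b' hY eT hW hT hT' hV).w
  let N := (Scheme.Modules.pullback gY).obj R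
  let w : Γ(N, W.ι ''ᵁ ⊤) :=
    _root_.ZarCoh.FlatBC.PullbackSections.pbRes gY R (FlatGeom.le_image gY b' hW) m
  let q := FlatGeom.qHom b' (FlatGeom.le_right gY b' hW)
  show q (g.appLE T T' eT a * s) • w = q s •
    _root_.ZarCoh.FlatBC.PullbackSections.pbRes gY R (FlatGeom.le_image gY b' hW)
      (FlatGeom.qHom b eV a • m)
  rw [_root_.ZarCoh.FlatBC.PullbackSections.pbRes_smul, smul_smul, map_mul, mul_comm]
  exact congrArg (fun k => (q s * k) • w) congr($hc a)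

/-- Base change from the affine open of the base to a chart. -/
noncomputable def toPb (R : Y.Modules) :
    letI : Algebra Γ(S, T) Γ(S', T') := (g.appLE T T' eT).hom.toAlgebra
    letI : Module Γ(S, T) Γ(R, V.ι ''ᵁ ⊤) := Module.compHom _ (FlatGeom.qHom b eV)
    Γ(S', T') ⊗[Γ(S, T)] Γ(R, V.ι ''ᵁ ⊤) →+ Γ((Scheme.Modules.pullback gY).obj R, W.ι ''ᵁ ⊤) :=
  letI : Algebra Γ(S, T) Γ(S', T') := (g.appLE T T' eT).hom.toAlgebra
  letI : Module Γ(S, T) Γ(R, V.ι ''ᵁ ⊤) := Module.compHom _ (FlatGeom.qHom b eV)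
  TensorProduct.liftAddHom
    { toFun := pbS gY b' hW R
      map_zero' := pbS_zero gY b' hW R
      map_add' := pbS_add gY b' hW R }
    fun a s m => pbS_smul b g gY b' hY hT hT' hV eT eV hW R a s m

theorem toPb_tmul (R : Y.Modules) (s : Γ(S', T')) (m : Γ(R, V.ι ''ᵁ ⊤)) :
    letI : Algebra Γ(S, T) Γ(S', T') := (g.appLE T T' eT).hom.toAlgebra
    letI : Module Γ(S, T) Γ(R, V.ι ''ᵁ ⊤) := Module.compHom _ (FlatGeom.qHom b eV)
    toPb b g gY b' hY hT hT' hV eT eV hW R (s ⊗ₜ[Γ(S, T)] m) =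
      FlatGeom.qHom b' (FlatGeom.le_right gY b' hW) s •
        _root_.ZarCoh.FlatBC.PullbackSections.pbRes gY R (FlatGeom.le_image gY b' hW) m := rfl

theorem bijective_toPb (R : Y.Modules) [R.IsQuasicoherent] :
    Function.Bijective (toPb b g gY b' hY hT hT' hV eT eV hW R) := by
  letI : Algebra Γ(S, T) Γ(S', T') := (g.appLE T T' eT).hom.toAlgebra
  letI : Module Γ(S, T) Γ(R, V.ι ''ᵁ ⊤) := Module.compHom _ (FlatGeom.qHom b eV)
  let e := FlatGeom.le_image gY b' hW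
  letI : Algebra Γ(S, T) Γ(Y, V.ι ''ᵁ ⊤) := (FlatGeom.qHom b eV).toAlgebra
  letI : Algebra Γ(S', T') Γ(Y', W.ι ''ᵁ ⊤) :=
    (FlatGeom.qHom b' (FlatGeom.le_right gY b' hW)).toAlgebra
  letI : Algebra Γ(Y, V.ι ''ᵁ ⊤) Γ(Y', W.ι ''ᵁ ⊤) :=
    (gY.appLE (V.ι ''ᵁ ⊤) (W.ι ''ᵁ ⊤) e).hom.toAlgebra
  letI : Algebra Γ(S, T) Γ(Y', W.ι ''ᵁ ⊤) :=
    ((algebraMap Γ(S', T') Γ(Y', W.ι ''ᵁ ⊤)).comp (algebraMap Γ(S, T) Γ(S', T'))).toAlgebra
  haveI : IsScalarTower Γ(S, T) Γ(S', T') Γ(Y', W.ι ''ᵁ ⊤) :=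
    IsScalarTower.of_algebraMap_eq fun _ => rfl
  have po := FlatGeom.isPushout_chart b eV g gY b' hY eT hW hT hT' hV
  haveI : IsScalarTower Γ(S, T) Γ(Y, V.ι ''ᵁ ⊤) Γ(Y', W.ι ''ᵁ ⊤) :=
    IsScalarTower.of_algebraMap_eq fun a => congr($po.w a)
  haveI : Algebra.IsPushout Γ(S, T) Γ(S', T') Γ(Y, V.ι ''ᵁ ⊤) Γ(Y', W.ι ''ᵁ ⊤) :=
    CommRingCat.isPushout_iff_isPushout.mp po
  haveI : IsScalarTower Γ(S, T) Γ(Y, V.ι ''ᵁ ⊤) Γ(R, V.ι ''ᵁ ⊤) :=
    IsScalarTower.of_algebraMap_smul fun _ _ => rfl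
  haveI : IsAffine (V : Scheme.{u}) := hV
  haveI : IsAffine (W : Scheme.{u}) := FlatGeom.isAffineOpen_chart b eV g gY b' hY hT hT' hV hW eT
  refine _root_.ZarCoh.FlatBC.Main.bijective_of_isPushout
    (_root_.ZarCoh.FlatBC.PullbackSections.pbTensor gY R e)
    (_root_.ZarCoh.FlatBC.PullbackSections.bijective_pbTensor gY R
      (V.ι_image_top.symm ▸ hV) (W.ι_image_top.symm ▸
        FlatGeom.isAffineOpen_chart b eV g gY b' hY hT hT' hV hW eT) e) _ fun s m => ?_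
  refine (toPb_tmul b g gY b' hY hT hT' hV eT eV hW R s m).trans ?_
  rw [_root_.ZarCoh.FlatBC.PullbackSections.pbTensor_tmul, one_smul]
  rfl

variable [M.IsQuasicoherent]

/-- Scalars and classes. -/
theorem εV_Φ (s : Γ(S', T'))
    (x : Ext.{u} (Zs.obj ((f ∣_ V) ⁻¹ᵁ ⊤)) ((QCohR.rV X (f ⁻¹ᵁ V)).obj (Coh.toAb M)) n) :
    let e := FlatGeom.le_image gY b' hW
    EpsV.εV E' W n ((Scheme.Modules.pullback gX).obj M)
      ((pushMap (j f gY gX f' hX e).base ((f ∣_ V) ⁻¹ᵁ ⊤) n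
          (Coh.toAb ((Scheme.Modules.pullback (j f gY gX f' hX e)).obj (M.restrict (f ⁻¹ᵁ V).ι)))
          (x.comp (Ext.mk₀ (_root_.ZarCoh.FlatBC.Main.σ
            (FlatGeom.pMap b' (FlatGeom.le_right gY b' hW) f') (j f gY gX f' hX e)
            (M.restrict (f ⁻¹ᵁ V).ι) s)) (add_zero n))).comp
        (Ext.mk₀ (abMap ((Units.pon gX (j f gY gX f' hX e) (Scheme.Hom.resLE_comp_ι gX
          (Main.le_preimage f gY f' gX hX.w V W e))).app M))) (add_zero n)) =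
      FlatGeom.qHom b' (FlatGeom.le_right gY b' hW) s •
        EpsV.εV E' W n ((Scheme.Modules.pullback gX).obj M)
          (PushCls.along (j f gY gX f' hX e).base ((f ∣_ V) ⁻¹ᵁ ⊤) (τ₀ f gY gX f' hX M e) n x) := by
  intro e
  let jX := j f gY gX f' hX e
  let M₀ := M.restrict (f ⁻¹ᵁ V).ι
  let P := (Scheme.Modules.pullback jX).obj M₀
  let r := Coh.toGlobal (A := Γ(S', T')) (FlatGeom.pMap b' (FlatGeom.le_right gY b' hW) f') s
  let ω := (Units.pon gX jX (Scheme.Hom.resLE_comp_ι gX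
    (Main.le_preimage f gY f' gX hX.w V W e))).app M
  have h1 : pushMap jX.base ((f ∣_ V) ⁻¹ᵁ ⊤) n (Coh.toAb P)
      (x.comp (Ext.mk₀ (_root_.ZarCoh.FlatBC.Main.σ
        (FlatGeom.pMap b' (FlatGeom.le_right gY b' hW) f') jX M₀ s)) (add_zero n)) =
      (PushCls.along jX.base ((f ∣_ V) ⁻¹ᵁ ⊤)
        (abMap ((pullbackPushforwardAdjunction jX).unit.app M₀)) n x).comp
        (Ext.mk₀ (Coh.smulAb P r)) (add_zero n) := by
    refine Eq.trans (congrArg (pushMap jX.base ((f ∣_ V) ⁻¹ᵁ ⊤) n (Coh.toAb P)) ?_)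
      (pushMap_natural jX.base ((f ∣_ V) ⁻¹ᵁ ⊤) n (Coh.smulAb P r) _)
    exact ((Ext.comp_assoc_of_second_deg_zero _ _ _ _).trans
      (congrArg (fun k ↦ Ext.comp x k (add_zero n)) (Ext.mk₀_comp_mk₀ _ _))).symm
  refine (congrArg (fun k ↦ EpsV.εV E' W n ((Scheme.Modules.pullback gX).obj M)
    (Ext.comp k (Ext.mk₀ (abMap ω)) (add_zero n))) h1).trans ?_
  refine (congrArg (EpsV.εV E' W n ((Scheme.Modules.pullback gX).obj M))
    (Affine.comp_comm (Coh.smulAb P r) (abMap ω) _ (Affine.smulAb_natural ω r) _)).trans ?_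
  refine Eq.trans ?_ (EpsV.εV_smul E' W n (FlatGeom.qHom b' (FlatGeom.le_right gY b' hW) s)
    ((Scheme.Modules.pullback gX).obj M) _)
  refine congrArg (fun k ↦ EpsV.εV E' W n ((Scheme.Modules.pullback gX).obj M)
    (Ext.comp k (Ext.mk₀ (Coh.smulAb (((Scheme.Modules.pullback gX).obj M).restrict (f' ⁻¹ᵁ W).ι) r))
      (add_zero n))) ?_
  exact PullOn.along_pon gX (Main.le_preimage f gY f' gX hX.w V W e) M ((f ∣_ V) ⁻¹ᵁ ⊤) n x

/-- The comparison on the classes of the restricted sheaf. -/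
noncomputable def εV₀ (E : CohCmp.SectCmp f Δ) (q : ℕ) :
    Ext.{u} (Zs.obj (⊤ : ((f ⁻¹ᵁ V : X.Opens) : Scheme.{u}).Opens))
      (Coh.toAb (M.restrict (f ⁻¹ᵁ V).ι)) q →+ Γ((Coh.Rpush f q).obj M, V.ι ''ᵁ ⊤) :=
  EpsV.εV E V q M

theorem εV_ρ (q : ℕ) (a : Γ(S, T))
    (x : Ext.{u} (Zs.obj (⊤ : ((f ⁻¹ᵁ V : X.Opens) : Scheme.{u}).Opens))
      (Coh.toAb (M.restrict (f ⁻¹ᵁ V).ι)) q) :
    εV₀ f M E q (x.comp (Ext.mk₀ (_root_.ZarCoh.FlatBC.Main.ρ (FlatGeom.pMap b eV f)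
        (M.restrict (f ⁻¹ᵁ V).ι) a)) (add_zero q)) =
      FlatGeom.qHom b eV a • εV₀ f M E q x :=
  EpsV.εV_smul E V q (FlatGeom.qHom b eV a) M x

variable [QuasiCompact f] [IsSeparated f]

theorem bijective_εV₀ (E : CohCmp.SectCmp f Δ) (hV : IsAffineOpen V) (q : ℕ) :
    Function.Bijective (εV₀ (V := V) f M E q) :=
  EpsV.bijective E V q M hV

/-- The comparison as a linear equivalence over the base. -/
noncomputable def εL (E : CohCmp.SectCmp f Δ) (hV : IsAffineOpen V) (q : ℕ) :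
    letI := _root_.ZarCoh.FlatBC.actModule
      (_root_.ZarCoh.FlatBC.Main.ρ (FlatGeom.pMap b eV f) (M.restrict (f ⁻¹ᵁ V).ι))
      (Zs.obj (⊤ : ((f ⁻¹ᵁ V : X.Opens) : Scheme.{u}).Opens)) q
    letI : Module Γ(S, T) Γ((Coh.Rpush f q).obj M, V.ι ''ᵁ ⊤) :=
      Module.compHom _ (FlatGeom.qHom b eV)
    Ext.{u} (Zs.obj (⊤ : ((f ⁻¹ᵁ V : X.Opens) : Scheme.{u}).Opens))
      (Coh.toAb (M.restrict (f ⁻¹ᵁ V).ι)) q ≃ₗ[Γ(S, T)] Γ((Coh.Rpush f q).obj M, V.ι ''ᵁ ⊤) :=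
  letI := _root_.ZarCoh.FlatBC.actModule
    (_root_.ZarCoh.FlatBC.Main.ρ (FlatGeom.pMap b eV f) (M.restrict (f ⁻¹ᵁ V).ι))
    (Zs.obj (⊤ : ((f ⁻¹ᵁ V : X.Opens) : Scheme.{u}).Opens)) q
  letI : Module Γ(S, T) Γ((Coh.Rpush f q).obj M, V.ι ''ᵁ ⊤) :=
    Module.compHom _ (FlatGeom.qHom b eV)
  LinearEquiv.ofBijective
    ({ εV₀ f M E q with map_smul' := fun a x => εV_ρ f b (E := E) M eV q a x } :
      Ext.{u} (Zs.obj (⊤ : ((f ⁻¹ᵁ V : X.Opens) : Scheme.{u}).Opens))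
        (Coh.toAb (M.restrict (f ⁻¹ᵁ V).ι)) q →ₗ[Γ(S, T)] Γ((Coh.Rpush f q).obj M, V.ι ''ᵁ ⊤))
    (bijective_εV₀ f M E hV q)

theorem εL_apply (hV : IsAffineOpen V) (q : ℕ)
    (x : Ext.{u} (Zs.obj (⊤ : ((f ⁻¹ᵁ V : X.Opens) : Scheme.{u}).Opens))
      (Coh.toAb (M.restrict (f ⁻¹ᵁ V).ι)) q) :
    εL f b M eV E hV q x = εV₀ f M E q x := rfl

include hV in
theorem flat_H (E : CohCmp.SectCmp f Δ) (hT : IsAffineOpen T)
    (hR : ∀ q : ℕ, FlatMod.IsFlatOver b ((Coh.Rpush f q).obj M)) (q : ℕ) :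
    letI := _root_.ZarCoh.FlatBC.actModule
      (_root_.ZarCoh.FlatBC.Main.ρ (FlatGeom.pMap b eV f) (M.restrict (f ⁻¹ᵁ V).ι))
      (Zs.obj (⊤ : ((f ⁻¹ᵁ V : X.Opens) : Scheme.{u}).Opens)) q
    Module.Flat Γ(S, T) (Ext.{u} (Zs.obj (⊤ : ((f ⁻¹ᵁ V : X.Opens) : Scheme.{u}).Opens))
      (Coh.toAb (M.restrict (f ⁻¹ᵁ V).ι)) q) := by
  letI := _root_.ZarCoh.FlatBC.actModule
    (_root_.ZarCoh.FlatBC.Main.ρ (FlatGeom.pMap b eV f) (M.restrict (f ⁻¹ᵁ V).ι))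
    (Zs.obj (⊤ : ((f ⁻¹ᵁ V : X.Opens) : Scheme.{u}).Opens)) q
  letI : Module Γ(S, T) Γ((Coh.Rpush f q).obj M, V.ι ''ᵁ ⊤) :=
    Module.compHom _ (FlatGeom.qHom b eV)
  haveI : Coh.IsQCoh M := ‹M.IsQuasicoherent›
  haveI : ((Coh.Rpush f q).obj M).IsQuasicoherent := Groth.Agent.S0030.result f M q
  haveI := FlatGeom.flat_chart b eV hT hV ((Coh.Rpush f q).obj M) (hR q)
  exact Module.Flat.of_linearEquiv (εL f b M eV E hV q)

include hT hT' hY in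
theorem isPullback_X :
    letI : Algebra Γ(S, T) Γ(S', T') := (g.appLE T T' eT).hom.toAlgebra
    IsPullback (j f gY gX f' hX (FlatGeom.le_image gY b' hW))
      (FlatGeom.pMap b' (FlatGeom.le_right gY b' hW) f') (FlatGeom.pMap b eV f)
      (Spec.map (CommRingCat.ofHom (algebraMap Γ(S, T) Γ(S', T')))) :=
  (Affine.isPullback_restrict f gY f' gX hX (FlatGeom.le_image gY b' hW)).paste_vert
    (FlatGeom.isPullback_chart b eV g gY b' hY eT hW hT hT')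

include hV in
theorem bij_Φ (E : CohCmp.SectCmp f Δ) (hF : FlatMod.IsFlatOver (f ≫ b) M)
    (hR : ∀ q : ℕ, FlatMod.IsFlatOver b ((Coh.Rpush f q).obj M)) :
    letI : Algebra Γ(S, T) Γ(S', T') := (g.appLE T T' eT).hom.toAlgebra
    Function.Bijective (_root_.ZarCoh.FlatBC.Φ
      (_root_.ZarCoh.FlatBC.Main.ρ (FlatGeom.pMap b eV f) (M.restrict (f ⁻¹ᵁ V).ι)) Γ(S', T')
      (_root_.ZarCoh.FlatBC.Main.σ (FlatGeom.pMap b' (FlatGeom.le_right gY b' hW) f')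
        (j f gY gX f' hX (FlatGeom.le_image gY b' hW)) (M.restrict (f ⁻¹ᵁ V).ι))
      (_root_.ZarCoh.FlatBC.Main.σ_smul (isPullback_X f b g gY b' gX f' hY hX hT hT' eT eV hW)
        (M.restrict (f ⁻¹ᵁ V).ι))
      (Zs.obj (⊤ : ((f ⁻¹ᵁ V : X.Opens) : Scheme.{u}).Opens)) n) := by
  classical
  letI : Algebra Γ(S, T) Γ(S', T') := (g.appLE T T' eT).hom.toAlgebra
  haveI : IsAffine (V : Scheme.{u}) := hV
  letI : ((f ⁻¹ᵁ V : X.Opens) : Scheme.{u}).Over (Spec (CommRingCat.of Γ(S, T))) :=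
    ⟨FlatGeom.pMap b eV f⟩
  letI : ((f' ⁻¹ᵁ W : X'.Opens) : Scheme.{u}).Over (Spec (CommRingCat.of Γ(S', T'))) :=
    ⟨FlatGeom.pMap b' (FlatGeom.le_right gY b' hW) f'⟩
  haveI : ((f ⁻¹ᵁ V : X.Opens) : Scheme.{u}).IsSeparated :=
    ⟨by rw [← terminal.comp_from (f ∣_ V)]; infer_instance⟩
  haveI : CompactSpace ((f ⁻¹ᵁ V : X.Opens) : Scheme.{u}) :=
    QuasiCompact.compactSpace_of_compactSpace (f ∣_ V)
  obtain ⟨s, hs, hcov⟩ :=
    isCompact_and_isOpen_iff_finite_and_eq_biUnion_affineOpens.mp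
      ⟨(isCompact_univ : IsCompact (Set.univ : Set ((f ⁻¹ᵁ V : X.Opens) : Scheme.{u}))), isOpen_univ⟩
  haveI := hs.to_subtype
  let U : s → ((f ⁻¹ᵁ V : X.Opens) : Scheme.{u}).Opens := fun i => i.1.1
  have hU : ∀ {q : ℕ} (i : Fin (q + 1) → s), IsAffineOpen (Cech.Complex.inter U i) := fun i =>
    IsAffineOpen.iInf fun a => (i a).1.2
  have hUtop : iSup U = ⊤ := by
    apply TopologicalSpace.Opens.ext
    rw [TopologicalSpace.Opens.coe_iSup, TopologicalSpace.Opens.coe_top, hcov]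
    ext z
    simp [U]
  exact FlatBridge.bij_top (X := ((f ⁻¹ᵁ V : X.Opens) : Scheme.{u}))
    (X' := ((f' ⁻¹ᵁ W : X'.Opens) : Scheme.{u}))
    (isPullback_X f b g gY b' gX f' hY hX hT hT' eT eV hW) (M.restrict (f ⁻¹ᵁ V).ι) U hU hUtop
    (fun Wo hWo => FlatGeom.flat_secA b eV f hT M hF Wo hWo)
    (flat_H f b M hV eV E hT hR) n

/-- Base change of classes on a chart. -/
theorem bc_toPb
    (s : Γ(S', T')) (x : Ext.{u} (Zs.obj (⊤ : ((f ⁻¹ᵁ V : X.Opens) : Scheme.{u}).Opens))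
      (Coh.toAb (M.restrict (f ⁻¹ᵁ V).ι)) n) :
    (B.bc n M).app (W.ι ''ᵁ ⊤) (pbS gY b' hW ((Coh.Rpush f n).obj M) s (EpsV.εV E V n M x)) =
      EpsV.εV E' W n ((Scheme.Modules.pullback gX).obj M)
        ((pushMap (j f gY gX f' hX (FlatGeom.le_image gY b' hW)).base ((f ∣_ V) ⁻¹ᵁ ⊤) n
          (Coh.toAb ((Scheme.Modules.pullback (j f gY gX f' hX (FlatGeom.le_image gY b' hW))).obj
            (M.restrict (f ⁻¹ᵁ V).ι)))
          (x.comp (Ext.mk₀ (_root_.ZarCoh.FlatBC.Main.σ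
            (FlatGeom.pMap b' (FlatGeom.le_right gY b' hW) f')
            (j f gY gX f' hX (FlatGeom.le_image gY b' hW)) (M.restrict (f ⁻¹ᵁ V).ι) s)) (add_zero n))).comp
          (Ext.mk₀ (abMap ((Units.pon gX (j f gY gX f' hX (FlatGeom.le_image gY b' hW))
            (Scheme.Hom.resLE_comp_ι gX (Main.le_preimage f gY f' gX hX.w V W
              (FlatGeom.le_image gY b' hW)))).app M))) (add_zero n)) := by
  refine ((B.bc n M).app_smul _ _).trans ?_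
  refine (congrArg (fun k ↦ FlatGeom.qHom b' (FlatGeom.le_right gY b' hW) s • k)
    ((Transpose.transpose_pbRes gY (B.φ n M) (FlatGeom.le_image gY b' hW)
      (EpsV.εV E V n M x)).trans (key f gY gX f' hX B M n (FlatGeom.le_image gY b' hW) x))).trans ?_
  exact (εV_Φ f gY b' gX f' hX M n hW s x).symm

include b hY hT hT' hV eT eV hW in
/-- The base change map is bijective on a chart. -/
theorem bijective_chart (hF : FlatMod.IsFlatOver (f ≫ b) M)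
    (hR : ∀ q : ℕ, FlatMod.IsFlatOver b ((Coh.Rpush f q).obj M)) :
    Function.Bijective ((B.bc n M).app (W.ι ''ᵁ ⊤)) := by
  haveI : QuasiCompact f' := MorphismProperty.of_isPullback hX inferInstance
  haveI : IsSeparated f' := MorphismProperty.of_isPullback hX inferInstance
  haveI := QCoh.Pullback.isQCoh_pullback gX M
  haveI : Coh.IsQCoh M := ‹M.IsQuasicoherent›
  haveI : ((Coh.Rpush f n).obj M).IsQuasicoherent := Groth.Agent.S0030.result f M n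
  let e := FlatGeom.le_image gY b' hW
  let hWa := FlatGeom.isAffineOpen_chart b eV g gY b' hY hT hT' hV hW eT
  letI : Algebra Γ(S, T) Γ(S', T') := (g.appLE T T' eT).hom.toAlgebra
  let jX := j f gY gX f' hX e
  let M₀ := M.restrict (f ⁻¹ᵁ V).ι
  haveI : IsAffineHom jX :=
    _root_.ZarCoh.FlatBC.Main.isAffineHom_fst (isPullback_X f b g gY b' gX f' hY hX hT hT' eT eV hW)
  haveI := QCoh.Pullback.isQCoh_pullback jX M₀
  have hP : Function.Bijective (pushMap jX.base ((f ∣_ V) ⁻¹ᵁ ⊤) n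
      (Coh.toAb ((Scheme.Modules.pullback jX).obj M₀))) :=
    Groth.Agent.Lib.ZarCoh.Morph.pushMap_bijective jX _ _ n
  let ω := (Units.pon gX jX (Scheme.Hom.resLE_comp_ι gX
    (Main.le_preimage f gY f' gX hX.w V W e))).app M
  haveI : IsIso ω := Main.isIso_pon gX _ M
  have hεJ : Function.Bijective fun y : Ext.{u} (Zs.obj ((f' ∣_ W) ⁻¹ᵁ ⊤))
      (Coh.toAb ((Scheme.Modules.pullback jX).obj M₀)) n =>
      EpsV.εV E' W n ((Scheme.Modules.pullback gX).obj M) (y.comp (Ext.mk₀ (abMap ω)) (add_zero n)) :=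
    (EpsV.bijective E' W n _ hWa).comp (Affine.bijective_postcomp (abMap ω) n)
  have hΦ := bij_Φ f b g gY b' gX f' hY hX M n hT hT' hV eT eV hW E hF hR
  letI := _root_.ZarCoh.FlatBC.actModule
    (_root_.ZarCoh.FlatBC.Main.ρ (FlatGeom.pMap b eV f) M₀)
    (Zs.obj (⊤ : ((f ⁻¹ᵁ V : X.Opens) : Scheme.{u}).Opens)) n
  letI : Module Γ(S, T) Γ((Coh.Rpush f n).obj M, V.ι ''ᵁ ⊤) :=
    Module.compHom _ (FlatGeom.qHom b eV)
  let L := (εL f b M eV E hV n).lTensor Γ(S', T')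
  let d := toPb b g gY b' hY hT hT' hV eT eV hW ((Coh.Rpush f n).obj M)
  refine (Function.Bijective.of_comp_iff _
    ((bijective_toPb b g gY b' hY hT hT' hV eT eV hW ((Coh.Rpush f n).obj M)).comp L.bijective)).1 ?_
  let Ψ : Γ(S', T') ⊗[Γ(S, T)] Ext.{u} (Zs.obj (⊤ : ((f ⁻¹ᵁ V : X.Opens) : Scheme.{u}).Opens))
      (Coh.toAb M₀) n →+ Γ((Coh.Rpush f' n).obj ((Scheme.Modules.pullback gX).obj M), W.ι ''ᵁ ⊤) :=
    ((EpsV.εV E' W n ((Scheme.Modules.pullback gX).obj M)).comp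
      ((Ext.mk₀ (abMap ω)).postcomp _ (add_zero n))).comp
      ((pushMap jX.base ((f ∣_ V) ⁻¹ᵁ ⊤) n (Coh.toAb ((Scheme.Modules.pullback jX).obj M₀))).comp
        (_root_.ZarCoh.FlatBC.Φ _ Γ(S', T') _
          (_root_.ZarCoh.FlatBC.Main.σ_smul (isPullback_X f b g gY b' gX f' hY hX hT hT' eT eV hW) M₀)
          _ n))
  let Λ : Γ(S', T') ⊗[Γ(S, T)] Ext.{u} (Zs.obj (⊤ : ((f ⁻¹ᵁ V : X.Opens) : Scheme.{u}).Opens))
      (Coh.toAb M₀) n →+ Γ((Coh.Rpush f' n).obj ((Scheme.Modules.pullback gX).obj M), W.ι ''ᵁ ⊤) :=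
    (((B.bc n M).app (W.ι ''ᵁ ⊤)).hom).comp (d.comp L.toAddMonoidHom)
  have hΛ : ∀ z, Λ z = Ψ z := by
    intro z
    induction z using TensorProduct.induction_on with
    | zero => rw [map_zero, map_zero]
    | tmul t x =>
      refine (congrArg (fun k ↦ (B.bc n M).app (W.ι ''ᵁ ⊤) (d k))
        (LinearMap.lTensor_tmul _ _ t x : L (t ⊗ₜ x) = t ⊗ₜ (εL f b M eV E hV n x))).trans ?_
      refine (congrArg ((B.bc n M).app (W.ι ''ᵁ ⊤))
        (toPb_tmul b g gY b' hY hT hT' hV eT eV hW _ t (εL f b M eV E hV n x))).trans ?_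
      refine (congrArg (fun k ↦ (B.bc n M).app (W.ι ''ᵁ ⊤) (pbS gY b' hW _ t k))
        (εL_apply f b M eV hV n x)).trans ?_
      refine (bc_toPb f gY b' gX f' hX B M n hW t x).trans ?_
      exact congrArg (fun k ↦ EpsV.εV E' W n ((Scheme.Modules.pullback gX).obj M)
        ((pushMap jX.base ((f ∣_ V) ⁻¹ᵁ ⊤) n (Coh.toAb ((Scheme.Modules.pullback jX).obj M₀)) k).comp
          (Ext.mk₀ (abMap ω)) (add_zero n))) (_root_.ZarCoh.FlatBC.Φ_tmul _ _ _ _ _ _ _ _).symm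
    | add z z' hz hz' => rw [map_add, map_add, hz, hz']
  show Function.Bijective Λ
  rw [show ⇑Λ = ⇑Ψ from funext hΛ]
  exact hεJ.comp (hP.comp hΦ)

end Chart

variable [M.IsQuasicoherent] [QuasiCompact f] [IsSeparated f]

include b hY in
/-- The base change map is an isomorphism. -/
theorem isIso_bc (hF : FlatMod.IsFlatOver (f ≫ b) M)
    (hR : ∀ q : ℕ, FlatMod.IsFlatOver b ((Coh.Rpush f q).obj M)) :
    IsIso (B.bc n M) := by
  haveI : QuasiCompact f' := MorphismProperty.of_isPullback hX inferInstance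
  haveI : IsSeparated f' := MorphismProperty.of_isPullback hX inferInstance
  haveI : Coh.IsQCoh M := ‹M.IsQuasicoherent›
  haveI : ((Coh.Rpush f n).obj M).IsQuasicoherent := Groth.Agent.S0030.result f M n
  haveI := QCoh.Pullback.isQCoh_pullback gY ((Coh.Rpush f n).obj M)
  haveI := QCoh.Pullback.isQCoh_pullback gX M
  haveI : Coh.IsQCoh ((Scheme.Modules.pullback gX).obj M) :=
    QCoh.Pullback.isQCoh_pullback gX M
  haveI : ((Coh.Rpush f' n).obj ((Scheme.Modules.pullback gX).obj M)).IsQuasicoherent :=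
    Groth.Agent.S0030.result f' _ n
  refine CoverIso.isIso_of_bijective_cover _ fun y' => ?_
  obtain ⟨T, hT, hyT, -⟩ := exists_isAffineOpen_mem_and_subset (U := (⊤ : S.Opens))
    (x := g (b' y')) trivial
  obtain ⟨T', hT', hyT', hle'⟩ := exists_isAffineOpen_mem_and_subset (U := g ⁻¹ᵁ T) (x := b' y') hyT
  have hy : gY y' ∈ b ⁻¹ᵁ T := by
    have h := congr($(hY.w) y')
    show b (gY y') ∈ T
    rw [show b (gY y') = g (b' y') from h]
    exact hyT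
  obtain ⟨V, hV, hyV, hleV⟩ := exists_isAffineOpen_mem_and_subset (U := b ⁻¹ᵁ T) (x := gY y') hy
  refine ⟨(gY ⁻¹ᵁ V ⊓ b' ⁻¹ᵁ T').ι ''ᵁ ⊤, ?_, ?_,
    bijective_chart f b g gY b' gX f' hY hX B M n hT hT' hV hle' hleV rfl hF hR⟩
  · rw [Scheme.Opens.ι_image_top]
    exact FlatGeom.isAffineOpen_chart b hleV g gY b' hY hT hT' hV rfl hle'
  · rw [Scheme.Opens.ι_image_top]
    exact ⟨hyV, hyT'⟩

end Groth.Agent.Lib.CohDelta.BC.FlatGen
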