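import Groth.Agent.Lib.FlatCx.Ker
import Groth.Agent.Lib.FlatCx.RightExact
import Groth.Agent.Lib.FlatCx.Basic

/-!
# Complexes of flat modules with flat homology commute with every base change
-/

set_option autoImplicit false
set_option linter.style.haveILetI false

universe u

open TensorProduct
open Groth.Agent.Lib.FlatCx

namespace Groth.Agent.Lib.CohDelta.BC.FlatH

variable {A : Type u} [CommRing A]

/-- A map whose tensor products stay exact with the next one has flat cokernel. -/
theorem flat_coker_of_exact {X Y Z : Type u} [AddCommGroup X] [Module A X] [AddCommGroup Y]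
    [Module A Y] [AddCommGroup Z] [Module A Z] (f : X →ₗ[A] Y) (g : Y →ₗ[A] Z) [Module.Flat A Z]
    (h : ∀ (M : Type u) [AddCommGroup M] [Module A M],
      Function.Exact (f.rTensor M) (g.rTensor M)) :
    Module.Flat A (Y ⧸ LinearMap.range f) := by
  rw [Module.Flat.iff_lTensor_preserves_injective_linearMap]
  intro M N _ _ _ _ k hk
  rw [injective_iff_map_eq_zero]
  intro x hx
  obtain ⟨z, rfl⟩ := LinearMap.rTensor_surjective M (Submodule.mkQ_surjective _) x
  have hq : ∀ (P : Type u) [AddCommGroup P] [Module A P],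
      Function.Exact (f.rTensor P) ((LinearMap.range f).mkQ.rTensor P) :=
    fun P _ _ => _root_.rTensor_exact P (LinearMap.exact_map_mkQ_range _) (Submodule.mkQ_surjective _)
  rw [Basic.lTensor_rTensor] at hx
  obtain ⟨w, hw⟩ := (hq N _).1 hx
  have h0 : g.rTensor M z = 0 := by
    apply Module.Flat.lTensor_preserves_injective_linearMap (M := Z) k hk
    rw [map_zero, Basic.lTensor_rTensor, ← hw]
    exact (h N).apply_apply_eq_zero w
  obtain ⟨v, hv⟩ := (h M z).1 h0
  exact ((hq M) z).2 ⟨v, hv⟩

/-- Flat cokernel and flat homology at `Y` give a flat cokernel one step down. -/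
theorem flat_coker_step {X Y Z : Type u} [AddCommGroup X] [Module A X] [AddCommGroup Y] [Module A Y]
    [AddCommGroup Z] [Module A Z] (f : X →ₗ[A] Y) (g : Y →ₗ[A] Z) (hgf : g ∘ₗ f = 0)
    [Module.Flat A Z] [Module.Flat A (Z ⧸ LinearMap.range g)]
    [Module.Flat A (LinearMap.ker g ⧸ LinearMap.range
      (f.codRestrict (LinearMap.ker g) fun x => congr($hgf x)))] :
    Module.Flat A (Y ⧸ LinearMap.range f) := by
  haveI := Ker.flat_range g
  let f' := f.codRestrict (LinearMap.ker g) fun x => congr($hgf x)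
  have hle : LinearMap.range f' ≤ LinearMap.ker ((LinearMap.range f).mkQ ∘ₗ (LinearMap.ker g).subtype) := by
    rintro _ ⟨x, rfl⟩
    exact (Submodule.Quotient.mk_eq_zero _).2 ⟨x, rfl⟩
  let i := (LinearMap.range f').liftQ ((LinearMap.range f).mkQ ∘ₗ (LinearMap.ker g).subtype) hle
  let j := (LinearMap.range f).liftQ g.rangeRestrict (by
    rintro _ ⟨x, rfl⟩
    exact Subtype.ext congr($hgf x))
  refine RightExact.flat_extension i j ?_ ?_ ?_
  · rw [injective_iff_map_eq_zero]
    intro z hz
    obtain ⟨z, rfl⟩ := Submodule.mkQ_surjective _ z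
    obtain ⟨x, hx⟩ := (Submodule.Quotient.mk_eq_zero _).1 hz
    exact (Submodule.Quotient.mk_eq_zero _).2 ⟨x, Subtype.ext hx⟩
  · intro z
    obtain ⟨y, rfl⟩ := g.surjective_rangeRestrict z
    exact ⟨Submodule.Quotient.mk y, rfl⟩
  · intro z
    obtain ⟨y, rfl⟩ := Submodule.mkQ_surjective _ z
    constructor
    · intro hy
      exact ⟨Submodule.Quotient.mk ⟨y, congrArg Subtype.val hy⟩, rfl⟩
    · rintro ⟨w, hw⟩
      obtain ⟨w, rfl⟩ := Submodule.mkQ_surjective _ w
      rw [← hw]
      exact Subtype.ext w.2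

section Seq

variable {W : ℕ → Type u} [∀ q, AddCommGroup (W q)] [∀ q, Module A (W q)]
  (d : ∀ q, W q →ₗ[A] W (q + 1)) (hd : ∀ q, d (q + 1) ∘ₗ d q = 0)

/-- The incoming boundary as a map into the cocycles. -/
noncomputable abbrev bd (q : ℕ) : W q →ₗ[A] LinearMap.ker (d (q + 1)) :=
  (d q).codRestrict (LinearMap.ker (d (q + 1))) fun x => congr($(hd q) x)

/-- A complex of flat modules with flat homology which is universally exact far to the right has
flat cokernels. -/
theorem flat_coker [∀ q, Module.Flat A (W q)] (b : ℕ)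
    (hH : ∀ q, Module.Flat A (LinearMap.ker (d (q + 1)) ⧸ LinearMap.range (bd d hd q)))
    (hhigh : ∀ q, b ≤ q → ∀ (M : Type u) [AddCommGroup M] [Module A M],
      Function.Exact ((d q).rTensor M) ((d (q + 1)).rTensor M)) (q : ℕ) :
    Module.Flat A (W (q + 1) ⧸ LinearMap.range (d q)) := by
  suffices key : ∀ (n q : ℕ), b ≤ q + n → Module.Flat A (W (q + 1) ⧸ LinearMap.range (d q)) from
    key b q (by omega)
  intro n
  induction n with
  | zero => exact fun q hq => flat_coker_of_exact (d q) (d (q + 1)) (hhigh q hq)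
  | succ n ih =>
    intro q hq
    haveI := ih (q + 1) (by omega)
    haveI := hH q
    exact flat_coker_step (d q) (d (q + 1)) (hd q)

end Seq

section Bij

variable {X Y Z N H T : Type u} [AddCommGroup X] [Module A X] [AddCommGroup Y] [Module A Y]
  [AddCommGroup Z] [Module A Z] [AddCommGroup N] [Module A N] [AddCommGroup H] [Module A H]
  [AddCommGroup T]
  (f : X →ₗ[A] Y) (g : Y →ₗ[A] Z) (hgf : g ∘ₗ f = 0)

/-- If the cokernel of the outgoing differential is flat, any map which is the base change map on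
classes of cocycles is bijective. -/
theorem bijective [Module.Flat A Z] [Module.Flat A (Z ⧸ LinearMap.range g)]
    (π : LinearMap.ker g →ₗ[A] H) (hπ : Function.Surjective π) (hπ0 : ∀ x, π ⟨f x, congr($hgf x)⟩ = 0)
    (π' : LinearMap.ker (g.lTensor N) →+ T) (hπ' : Function.Surjective π')
    (hπ'0 : ∀ z, π' z = 0 → ∃ y, f.lTensor N y = z.1)
    (Φ : N ⊗[A] H →+ T)
    (hΦ : ∀ (b : N) (c : LinearMap.ker g) (hc : g.lTensor N (b ⊗ₜ c.1) = 0),
      Φ (b ⊗ₜ π c) = π' ⟨b ⊗ₜ c.1, hc⟩) :
    Function.Bijective Φ := by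
  obtain ⟨hinj, hex⟩ := Ker.ker_lTensor_of_flat_coker g N
  have hmem : ∀ w, g.lTensor N ((LinearMap.ker g).subtype.lTensor N w) = 0 :=
    fun w => (hex _).2 ⟨w, rfl⟩
  have key : ∀ w, Φ (π.lTensor N w) = π' ⟨(LinearMap.ker g).subtype.lTensor N w, hmem w⟩ := by
    intro w
    induction w using TensorProduct.induction_on with
    | zero =>
      refine (map_zero Φ).trans ((map_zero π').symm.trans (congrArg π' (Subtype.ext ?_)))
      exact (map_zero _).symm
    | tmul b c => exact hΦ b c _
    | add w w' hw hw' =>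
      refine ((congrArg Φ (map_add _ w w')).trans (map_add Φ _ _)).trans ?_
      rw [hw, hw', ← map_add π']
      exact congrArg π' (Subtype.ext (map_add _ w w').symm)
  refine ⟨(injective_iff_map_eq_zero _).2 fun x hx => ?_, fun t => ?_⟩
  · obtain ⟨w, rfl⟩ := LinearMap.lTensor_surjective N hπ x
    obtain ⟨y, hy⟩ := hπ'0 _ ((key w).symm.trans hx)
    let f' := f.codRestrict (LinearMap.ker g) fun x => congr($hgf x)
    have hw : w = f'.lTensor N y := hinj (by
      rw [← LinearMap.lTensor_comp_apply]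
      exact hy.symm)
    rw [hw, ← LinearMap.lTensor_comp_apply, show π ∘ₗ f' = 0 from LinearMap.ext hπ0,
      LinearMap.lTensor_zero]
    rfl
  · obtain ⟨z, rfl⟩ := hπ' t
    obtain ⟨w, hw⟩ := (hex z.1).1 z.2
    exact ⟨π.lTensor N w, (key w).trans (congrArg π' (Subtype.ext hw))⟩

end Bij

end Groth.Agent.Lib.CohDelta.BC.FlatH
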