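import Groth.Agent.Lib.CohDelta.BC.Beta
import Groth.Agent.Lib.CohDelta.BC.Comp
import Groth.Agent.Lib.CohDelta.BC.Transpose
import Groth.Agent.Lib.ZarCoh.FlatBC.Equiv

/-!
# Flat base change over affine opens
-/

set_option linter.style.haveILetI false
set_option maxHeartbeats 4000000

universe u

open CategoryTheory CategoryTheory.Limits AlgebraicGeometry AlgebraicGeometry.Scheme.Modules
open TopologicalSpace Opposite
open CategoryTheory.Abelian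
open Groth.Agent.Lib.ZarCoh.Basic Groth.Agent.Lib.ZarCoh.Compare
open Groth.Agent.Lib.CohDelta.Basic Groth.Agent.Lib.CohDelta.Syzygy
open scoped TensorProduct

namespace Groth.Agent.Lib.CohDelta.BC.Main

variable {X S X' S' : Scheme.{u}} (f : X ⟶ S) (g : S' ⟶ S) (f' : X' ⟶ S') (g' : X' ⟶ X)
  (w : g' ≫ f = f' ≫ g) (V : S.Opens) (V' : S'.Opens)
  (e : V'.ι ''ᵁ ⊤ ≤ g ⁻¹ᵁ (V.ι ''ᵁ ⊤))

include w e in
theorem le_preimage : f' ⁻¹ᵁ V' ≤ g' ⁻¹ᵁ (f ⁻¹ᵁ V) := by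
  intro y hy
  have h1 : g (f' y) ∈ V.ι ''ᵁ ⊤ := e (by rw [V'.ι_image_top]; exact hy)
  rw [V.ι_image_top] at h1
  show f (g' y) ∈ V
  rwa [show f (g' y) = g (f' y) from congr($w y)]

theorem sq_app (B : X'.Modules) (W : S.Opens) :
    ∃ i : f' ⁻¹ᵁ (g ⁻¹ᵁ W) ⟶ g' ⁻¹ᵁ (f ⁻¹ᵁ W),
      ((Lift.sq f g f' g' w).hom.app B).app W = B.presheaf.map i.op := by
  refine ⟨eqToHom (by rw [← Scheme.Hom.comp_preimage, ← w, Scheme.Hom.comp_preimage]), ?_⟩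
  simp [Lift.sq]

section Classes

variable [HasInjectiveResolutions X.Modules] [HasInjectiveResolutions X'.Modules]
  {M : X.Modules} {G : X'.Modules} (I : InjectiveResolution M) (J : InjectiveResolution G)
  (φ : I.cocomplex ⟶ ((pushforward g').mapHomologicalComplex (ComplexShape.up ℕ)).obj J.cocomplex)
  (n : ℕ) (bc : Comp.Rn f (M := M) n ⟶ (pushforward g).obj (Comp.Rn f' (M := G) n))
  (hbc : Lift.pR I f n ≫ bc = Lift.comb f g f' g' w (Lift.ψ I J φ n) (Lift.pR J f' n))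

include hbc in
/-- The base change on classes. -/
theorem EV_Ψ
    (x : Ext.{u} (Zs.obj ((f ∣_ V) ⁻¹ᵁ ⊤)) ((QCohR.rV X (f ⁻¹ᵁ V)).obj (Coh.toAb (Z I 0))) n) :
    (Comp.Rn f' (M := G) n).presheaf.map (homOfLE e).op
        (bc.app (V.ι ''ᵁ ⊤) (Comp.EV f I n V x)) =
      Comp.EV f' J n V'
        (Beta.Ψ g' (le_preimage f g f' g' w V V' e) I J φ ((f ∣_ V) ⁻¹ᵁ ⊤) 0 n x) := by
  obtain ⟨y, rfl⟩ := (QCohR.al f V (Coh.toAb (Z I 0)) n ⊤).symm.surjective x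
  obtain ⟨u, rfl⟩ := c_surjective I (f ⁻¹ᵁ (V.ι ''ᵁ ⊤)) n y
  have hle : f' ⁻¹ᵁ (V'.ι ''ᵁ ⊤) ≤ g' ⁻¹ᵁ (f ⁻¹ᵁ (V.ι ''ᵁ ⊤)) := by
    rw [V'.ι_image_top, V.ι_image_top]
    exact le_preimage f g f' g' w V V' e
  let u' : Γ(Z J n, f' ⁻¹ᵁ (V'.ι ''ᵁ ⊤)) :=
    (Z J n).presheaf.map (homOfLE hle).op ((Lift.ψ I J φ n).app (f ⁻¹ᵁ (V.ι ''ᵁ ⊤)) u)
  have hΨ : Beta.Ψ g' (le_preimage f g f' g' w V V' e) I J φ ((f ∣_ V) ⁻¹ᵁ ⊤) 0 n
      ((QCohR.al f V (Coh.toAb (Z I 0)) n ⊤).symm (c I _ n u)) =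
      (QCohR.al f' V' (Coh.toAb (Z J 0)) n ⊤).symm (c J _ n u') := by
    refine (congrArg (Beta.Ψ g' (le_preimage f g f' g' w V V' e) I J φ ((f ∣_ V) ⁻¹ᵁ ⊤) 0 n)
      (Comp.al_symm_c f I n V u)).trans ?_
    refine (Beta.Ψ_iter g' (le_preimage f g f' g' w V V' e) I J φ ((f ∣_ V) ⁻¹ᵁ ⊤) n 0 n
      (zero_add n) _).trans (Eq.trans ?_ (Comp.al_symm_c f' J n V' u').symm)
    refine congrArg (fun k ↦ Ext.comp k
      ((iter J n).mapExactFunctor (QCohR.rV X' (f' ⁻¹ᵁ V'))) (zero_add n))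
      ((Beta.Ψ_mk₀ g' (le_preimage f g f' g' w V V' e) I J φ ((f ∣_ V) ⁻¹ᵁ ⊤) n _).trans
        (congrArg Ext.mk₀ (congrArg (homEquiv ((f' ∣_ V') ⁻¹ᵁ ⊤) _).symm ?_)))
    refine (congrArg (fun k ↦ (Z J n).presheaf.map
      (homOfLE (Beta.image_jj_le g' (le_preimage f g f' g' w V V' e) _)).op
        ((Lift.ψ I J φ n).app _ k)) (Equiv.apply_symm_apply _ _)).trans ?_
    refine (congrArg ((Z J n).presheaf.map _) ((Lift.ψ I J φ n).mapPresheaf.naturality_apply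
      (eqToHom (image_morphismRestrict_preimage f V ⊤)).op u)).trans ?_
    show (Z J n).presheaf.map _ ((Z J n).presheaf.map
        ((Opens.map g'.base).map (eqToHom (image_morphismRestrict_preimage f V ⊤))).op
        ((Lift.ψ I J φ n).app _ u)) = (Z J n).presheaf.map _ ((Z J n).presheaf.map _ _)
    exact (Units.map_map (Z J n).presheaf _ _
      ((homOfLE hle).op ≫ (eqToHom (image_morphismRestrict_preimage f' V' ⊤)).op) _).trans
      (Units.map_map (Z J n).presheaf _ _ _ _).symm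
  refine Eq.trans ?_ (congrArg (Comp.EV f' J n V') hΨ).symm
  refine Eq.trans ?_ (Comp.EV_mk f' J n V' u').symm
  refine (congrArg (fun k ↦ (Comp.Rn f' (M := G) n).presheaf.map (homOfLE e).op
    (bc.app (V.ι ''ᵁ ⊤) k)) (Comp.EV_mk f I n V u)).trans ?_
  refine (congrArg ((Comp.Rn f' (M := G) n).presheaf.map (homOfLE e).op)
    (congr(($hbc).app (V.ι ''ᵁ ⊤) u))).trans ?_
  obtain ⟨i, hi⟩ := sq_app f g f' g' w (Z J n) (V.ι ''ᵁ ⊤)
  refine (congrArg ((Comp.Rn f' (M := G) n).presheaf.map (homOfLE e).op)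
    (congrArg ((Lift.pR J f' n).app (g ⁻¹ᵁ (V.ι ''ᵁ ⊤)))
      (congr($hi ((Lift.ψ I J φ n).app (f ⁻¹ᵁ (V.ι ''ᵁ ⊤)) u))))).trans ?_
  refine ((Lift.pR J f' n).mapPresheaf.naturality_apply (homOfLE e).op _).symm.trans ?_
  refine congrArg ((Lift.pR J f' n).app (V'.ι ''ᵁ ⊤)) ?_
  exact Units.map_map (Z J n).presheaf i.op ((Opens.map f'.base).map (homOfLE e)).op (homOfLE hle).op _

end Classes

section Unit

/-- The identification `j^*(M|) ≅ (g'^*M)|` carries units to units. -/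
theorem unit_β {U : X.Opens} {U' : X'.Opens} (hU : U' ≤ g' ⁻¹ᵁ U) (M : X.Modules) :
    (QCohR.rV X U).map (abMap ((pullbackPushforwardAdjunction g').unit.app M)) ≫
        Beta.β g' hU (Coh.toAb ((Scheme.Modules.pullback g').obj M)) =
      abMap ((pullbackPushforwardAdjunction (Beta.jj g' hU)).unit.app (M.restrict U.ι)) ≫
        (CohTop.push (Beta.jj g' hU).base).map
          (abMap ((Units.pon g' (Beta.jj g' hU) (Scheme.Hom.resLE_comp_ι g' hU)).app M)) := by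
  refine Sheaf.hom_ext (NatTrans.ext (funext fun O ↦ ?_))
  refine AddCommGrpCat.hom_ext (AddMonoidHom.ext fun s ↦ ?_)
  suffices ∀ (O' : (U : Scheme.{u}).Opens), O' = U.ι ⁻¹ᵁ (U.ι ''ᵁ O.unop) →
      ∀ (i : U.ι ''ᵁ O' ⟶ U.ι ''ᵁ O.unop) (hle : U'.ι ''ᵁ (Beta.jj g' hU ⁻¹ᵁ O') ≤ g' ⁻¹ᵁ (U.ι ''ᵁ O.unop)),
      ((Units.pon g' (Beta.jj g' hU) (Scheme.Hom.resLE_comp_ι g' hU)).app M).app
          (Beta.jj g' hU ⁻¹ᵁ O')
          (Units.eta (Beta.jj g' hU) (M.restrict U.ι) O' (M.presheaf.map i.op s)) =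
        ((Scheme.Modules.pullback g').obj M).presheaf.map (homOfLE hle).op
          (Units.eta g' M (U.ι ''ᵁ O.unop) s) by
    have h2 := this O.unop (U.ι.preimage_image_eq O.unop).symm (𝟙 _)
      (Beta.image_jj_le g' hU O.unop)
    rw [op_id, M.presheaf.map_id] at h2
    exact h2.symm
  rintro _ rfl i hle
  rw [Subsingleton.elim i (homOfLE (U.ι.image_preimage_le _))]
  exact Units.pon_eta g' (Beta.jj g' hU) (Scheme.Hom.resLE_comp_ι g' hU) M _ s hle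

theorem isIso_pon {U : X.Opens} {U' : X'.Opens} (hU : U' ≤ g' ⁻¹ᵁ U) (M : X.Modules) :
    IsIso ((Units.pon g' (Beta.jj g' hU) (Scheme.Hom.resLE_comp_ι g' hU)).app M) := by
  rw [Units.pon_app]
  infer_instance

end Unit

end Groth.Agent.Lib.CohDelta.BC.Main
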