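import Groth.Agent.Lib.ZarCoh.Compare

/-!
# `pushMap` and connecting classes
-/

set_option autoImplicit false
set_option linter.style.haveILetI false

universe u

open CategoryTheory CategoryTheory.Limits TopologicalSpace CategoryTheory.Abelian
open Groth.Agent.Lib.ZarCoh.Basic Groth.Agent.Lib.ZarCoh.Compare

namespace Groth.Agent.Lib.CohDelta.BC.PushCls

variable {X Y : TopCat.{u}} (f : X ⟶ Y)

/-- `Hⁿ(V, F) → Hⁿ(f⁻¹V, G)` induced by `τ : F ⟶ f_*G`. -/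
noncomputable def along (V : Opens Y) {F : CohTop.Ab Y} {G : CohTop.Ab X}
    (τ : F ⟶ (CohTop.push f).obj G) (n : ℕ) :
    Ext.{u} (Zs.obj V) F n →+ Ext.{u} (Zs.obj ((Opens.map f).obj V)) G n :=
  (pushMap f V n G).comp ((Ext.mk₀ τ).postcomp _ (add_zero n))

theorem along_apply (V : Opens Y) {F : CohTop.Ab Y} {G : CohTop.Ab X}
    (τ : F ⟶ (CohTop.push f).obj G) (n : ℕ) (x : Ext.{u} (Zs.obj V) F n) :
    along f V τ n x = pushMap f V n G (x.comp (Ext.mk₀ τ) (add_zero n)) := rfl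

theorem along_eq (V : Opens Y) {F : CohTop.Ab Y} {G : CohTop.Ab X}
    (τ : F ⟶ (CohTop.push f).obj G) (n : ℕ) (x : Ext.{u} (Zs.obj V) F n) :
    along f V τ n x = (cmp (CohTop.pull f) (pullGen f V) n F x).comp
      (Ext.mk₀ (((ppAdj f).homEquiv _ _).symm τ)) (add_zero n) := by
  rw [along_apply, pushMap_apply, cmp_comp, Ext.mapExactFunctor_mk₀,
    Ext.comp_assoc_of_second_deg_zero, Ext.mk₀_comp_mk₀, Adjunction.homEquiv_counit]

theorem along_δ (V : Opens Y) {S : ShortComplex (CohTop.Ab Y)} (hS : S.ShortExact)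
    {T : ShortComplex (CohTop.Ab X)} (hT : T.ShortExact)
    (τ₁ : S.X₁ ⟶ (CohTop.push f).obj T.X₁) (τ₂ : S.X₂ ⟶ (CohTop.push f).obj T.X₂)
    (τ₃ : S.X₃ ⟶ (CohTop.push f).obj T.X₃)
    (h₁₂ : τ₁ ≫ (CohTop.push f).map T.f = S.f ≫ τ₂)
    (h₂₃ : τ₂ ≫ (CohTop.push f).map T.g = S.g ≫ τ₃) (n : ℕ) (z : Ext.{u} (Zs.obj V) S.X₃ n) :
    along f V τ₁ (n + 1) (z.comp hS.extClass rfl) = (along f V τ₃ n z).comp hT.extClass rfl := by
  have hS' := hS.map_of_exact (CohTop.pull f)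
  let φ : S.map (CohTop.pull f) ⟶ T :=
    { τ₁ := ((ppAdj f).homEquiv _ _).symm τ₁
      τ₂ := ((ppAdj f).homEquiv _ _).symm τ₂
      τ₃ := ((ppAdj f).homEquiv _ _).symm τ₃
      comm₁₂ := ((ppAdj f).homEquiv_naturality_right_symm τ₁ T.f).symm.trans
        ((congrArg _ h₁₂).trans ((ppAdj f).homEquiv_naturality_left_symm S.f τ₂))
      comm₂₃ := ((ppAdj f).homEquiv_naturality_right_symm τ₂ T.g).symm.trans
        ((congrArg _ h₂₃).trans ((ppAdj f).homEquiv_naturality_left_symm S.g τ₃)) }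
  rw [along_eq, along_eq, cmp_comp, Ext.mapExactFunctor_extClass _ hS,
    Ext.comp_assoc_of_third_deg_zero]
  refine (congrArg (fun k ↦ Ext.comp _ k rfl)
    (ShortComplex.ShortExact.extClass_naturality hS' hT φ)).trans ?_
  exact (Ext.comp_assoc_of_second_deg_zero _ _ _ _).symm

theorem along_mk₀ (V : Opens Y) {F : CohTop.Ab Y} {G : CohTop.Ab X}
    (τ : F ⟶ (CohTop.push f).obj G) (g : Zs.obj V ⟶ F) :
    along f V τ 0 (Ext.mk₀ g) = Ext.mk₀ ((homEquiv ((Opens.map f).obj V) G).symm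
      (τ.hom.app (Opposite.op V) (homEquiv V F g))) := by
  rw [along_apply, Ext.mk₀_comp_mk₀, pushMap_mk₀, homEquiv_comp]

theorem along_natural (V : Opens Y) {F F' : CohTop.Ab Y} {G G' : CohTop.Ab X}
    (α : F ⟶ F') (β : G ⟶ G') (τ : F ⟶ (CohTop.push f).obj G)
    (τ' : F' ⟶ (CohTop.push f).obj G') (h : α ≫ τ' = τ ≫ (CohTop.push f).map β) (n : ℕ)
    (x : Ext.{u} (Zs.obj V) F n) :
    along f V τ' n (x.comp (Ext.mk₀ α) (add_zero n)) =
      (along f V τ n x).comp (Ext.mk₀ β) (add_zero n) := by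
  rw [along_apply, along_apply, Ext.comp_assoc_of_second_deg_zero, Ext.mk₀_comp_mk₀, h,
    ← pushMap_natural, Ext.comp_assoc_of_second_deg_zero, Ext.mk₀_comp_mk₀]

end Groth.Agent.Lib.CohDelta.BC.PushCls
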